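import Groth.Agent.Surf.K459.CurveReg
import Groth.Agent.CohqA.AffPush
import Groth.Agent.CurvesA.DimOne
import Groth.Agent.S1535

/-!
# Basic facts for smooth surfaces over a field
-/

set_option autoImplicit false
universe u
open CategoryTheory CategoryTheory.Limits AlgebraicGeometry TopologicalSpace Opposite

namespace K459.SurfBase

open K459.PdAlg K459.LocFreeKer K459.CurveReg

variable {k : Type u} [Field k]

theorem isLocallyNoetherian (S : Scheme.{u}) (f : S ⟶ Spec (CommRingCat.of k)) [LocallyOfFiniteType f] :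
    IsLocallyNoetherian S := LocallyOfFiniteType.isLocallyNoetherian f

theorem isRegular (S : Scheme.{u}) [S.Over (Spec (CommRingCat.of k))] [Smooth (S ↘ Spec (CommRingCat.of k))]
    (x : S) : IsRegularLocalRing (S.presheaf.stalk x) :=
  Groth.Agent.S1535.result k S x

theorem ringKrullDim_stalk_le (S : Scheme.{u}) (hdim : topologicalKrullDim S = 2) (x : S) :
    ringKrullDim (S.presheaf.stalk x) ≤ 2 :=
  (Groth.Agent.CurvesA.DimOne.ringKrullDim_stalk_le S x).trans hdim.le

theorem isQCoh_push {C S : Scheme.{u}} (j : C ⟶ S) [IsClosedImmersion j] {M : C.Modules} (hM : Coh.IsQCoh M) :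
    Coh.IsQCoh ((Coh.push j).obj M) :=
  Groth.Agent.CohqA.AffPush.isQCoh_push j M hM

end K459.SurfBase
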