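import Groth.Agent.Surf.K459.Duality
import Groth.Agent.Surf.K459.SurfBase
import Groth.Agent.Picfga.CurveRelDim
import Groth.Agent.Vancyc.H878.OmegaRank
import Groth.Agent.Krr.H487.KerRank
import Groth.Agent.Krr.H466.ClosedLF
import Groth.Agent.Sga2.PnRes
import Groth.Prelude.Def_Canon

/-!
# Smooth projective surfaces: resolutions, the canonical sheaf, torsion
-/

set_option autoImplicit false
universe u
open CategoryTheory CategoryTheory.Limits AlgebraicGeometry TopologicalSpace Opposite
open Groth.Agent

namespace K459.SurfRes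

open K459.PdAlg K459.LocFreeKer K459.CurveReg K459.ExStalk K459.Duality

variable {k : Type u} [Field k]

theorem hasEnoughLocFree_projSpace (n : ℕ) : KRR.HasEnoughLocFree (CohB1.ProjSpace n k) := by
  intro F hF
  obtain ⟨m, d, K, f, g, w, -, -, h⟩ := Sga2.PnRes.exists_step k n F hF
  exact ⟨_, g, Sga2.PnCoprod.isFinLocFree_sum _ _ d, h.epi_g⟩

theorem hasEnoughLocFree {S : Scheme.{u}} {f : S ⟶ Spec (CommRingCat.of k)}
    (hproj : ∃ (n : ℕ) (ι : S ⟶ CohB1.ProjSpace n k), IsClosedImmersion ι ∧
      ι ≫ CohB1.ProjSpace.toSpec n k = f) : KRR.HasEnoughLocFree S := by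
  obtain ⟨n, ι, hι, -⟩ := hproj
  exact Krr.H466.ClosedLF.hasEnoughLocFree_of_closed ι (hasEnoughLocFree_projSpace n)

theorem isInvertible_topDiff (n : ℕ) (S : Scheme.{u}) (f : S ⟶ Spec (CommRingCat.of k)) [Smooth f] [IsIntegral S]
    [QuasiSeparated f] (hdim : topologicalKrullDim S = n) {ω : S.Modules} (hω : Canon.IsTopDiff f n ω) :
    PicF.IsInvertible ω := by
  have h1 : SmoothOfRelativeDimension n f :=
    Picfga.CurveRelDim.smoothOfRelativeDimension_of_topologicalKrullDim_eq k S f n hdim
  have h2 := Vancyc.H878.OmegaRank.isFinLocFreeOfRank_omega n f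
  have h3 := Krr.H487.KerRank.isFinLocFreeOfRank_extPow h2 hω
  rw [Nat.choose_self] at h3
  exact Ega2.QCohLocal.isFinLocFreeOfRank_one_iff.1 h3

/-- The structure map of a proper closed integral curve in an integral surface is not injective on the local
rings. -/
theorem exists_ker {S : Scheme.{u}} (f : S ⟶ Spec (CommRingCat.of k)) [LocallyOfFiniteType f]
    [IsIntegral S] (hdim : topologicalKrullDim S = 2) {C : Scheme.{u}} (j : C ⟶ S) [IsClosedImmersion j]
    [IsIntegral C] (hC : topologicalKrullDim C = 1) (c : C) :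
    ∃ r : S.presheaf.stalk (j c), r ≠ 0 ∧ (j.stalkMap c).hom r = 0 := by
  by_contra hcon
  push Not at hcon
  have hinj : Function.Injective (j.stalkMap c).hom :=
    (injective_iff_map_eq_zero _).2 fun r hr => by
      by_contra h
      exact hcon r h hr
  obtain ⟨a, t, m, h1, h2, h3, h4, h5⟩ := Groth.Agent.CycA.IntLocal.exists_dims f (j c)
  obtain ⟨a', t', m', h1', h2', h3', h4', h5'⟩ := Groth.Agent.CycA.IntLocal.exists_dims (j ≫ f) c
  have e1 : m = 2 := by
    rw [h4] at hdim; exact_mod_cast hdim
  have e3 : m' = 1 := by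
    rw [h4'] at hC; exact_mod_cast hC
  have e4 : a = a' := by
    have h6 := ringKrullDim_eq_of_ringEquiv (RingEquiv.ofBijective (j.stalkMap c).hom
      ⟨hinj, j.stalkMap_surjective c⟩)
    rw [h1, h1'] at h6
    exact_mod_cast h6
  have e5 : t = t' := by
    have hcl : j '' (closure {c}) = closure {j c} := by
      rw [← j.isClosedEmbedding.closure_image_eq, Set.image_singleton]
    have hh : topologicalKrullDim (closure {c} : Set C) = topologicalKrullDim (j '' (closure {c}) : Set S) :=
      (IsHomeomorph.topologicalKrullDim_eq _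
        ((j.isClosedEmbedding.isEmbedding.homeomorphImage (closure {c})).isHomeomorph))
    rw [hcl, h3, h3'] at hh
    exact_mod_cast hh.symm
  omega

theorem tors_push {S : Scheme.{u}} (f : S ⟶ Spec (CommRingCat.of k)) [LocallyOfFiniteType f]
    [IsIntegral S] (hdim : topologicalKrullDim S = 2) {C : Scheme.{u}} (j : C ⟶ S) [IsClosedImmersion j]
    [IsIntegral C] (hC : topologicalKrullDim C = 1) (M : C.Modules) : Tors ((Coh.push j).obj M) := by
  intro x
  by_cases hxj : x ∈ Set.range j
  · obtain ⟨c, rfl⟩ := hxj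
    obtain ⟨r, h0, hr⟩ := exists_ker f hdim j hC c
    refine ⟨r, h0, fun m => ?_⟩
    have h3 := Groth.Agent.Sga67.FlatPre.pushAdd_bijective j j.isClosedEmbedding.isInducing M c
    apply h3.1
    rw [map_zero]
    have h4 := Groth.Agent.Fdesc.PullbackStalk.pushAdd_smul j M c r m
    refine h4.trans ?_
    change (j.stalkMap c).hom r • _ = _
    rw [hr, zero_smul]
  · refine ⟨1, one_ne_zero, fun m => ?_⟩
    have := Groth.Agent.Ega1.ClosedUnit.subsingleton_stalk_pushforward j j.isClosedEmbedding.isClosed_range M x hxj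
    exact Subsingleton.elim _ _

end K459.SurfRes
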