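import Groth.Agent.Surf.K459.SimpleStalk
import Groth.Agent.Surf.K459.SurfRes

/-!
# Rank one modules on a curve in a surface: stalks in codimension one
-/

set_option autoImplicit false
universe u
open CategoryTheory CategoryTheory.Limits AlgebraicGeometry TopologicalSpace Opposite
open Groth.Agent

namespace K459.CurvePts

open K459.PdAlg K459.LocFreeKer K459.ExStalk K459.Duality K459.SimpleStalk K459.PureSupp

theorem exists_principal (R : Type*) [CommRing R] [IsRegularLocalRing R] (h : ringKrullDim R ≤ 1) :
    ∃ π : R, IsLocalRing.maximalIdeal R = Ideal.span {π} := by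
  have h1 := IsRegularLocalRing.spanFinrank_maximalIdeal (R := R)
  rw [← h1] at h
  have h2 : (IsLocalRing.maximalIdeal R).spanFinrank ≤ 1 := by exact_mod_cast h
  have hfg : (IsLocalRing.maximalIdeal R).FG := IsNoetherian.noetherian _
  have h3 := Submodule.FG.generators_ncard hfg
  have h4 : Submodule.span R (IsLocalRing.maximalIdeal R).generators = IsLocalRing.maximalIdeal R :=
    (IsLocalRing.maximalIdeal R).span_generators
  have hfin : (IsLocalRing.maximalIdeal R).generators.Finite := Submodule.FG.finite_generators hfg
  rcases Nat.le_one_iff_eq_zero_or_eq_one.1 h2 with h5 | h5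
  · rw [h5, Set.ncard_eq_zero hfin] at h3
    refine ⟨0, ?_⟩
    rw [← h4, h3]
    simp
  · rw [h5, Set.ncard_eq_one] at h3
    obtain ⟨π, hπ⟩ := h3
    exact ⟨π, by rw [← h4, hπ]⟩

variable {k : Type u} [Field k] {S : Scheme.{u}} (f : S ⟶ Spec (CommRingCat.of k)) [LocallyOfFiniteType f]
    [IsIntegral S] {C : Scheme.{u}} (j : C ⟶ S) [IsClosedImmersion j]
    [IsIntegral C]

include f in
/-- On a curve in a surface only the generic point has codimension at most one in the surface. -/
theorem eq_genericPoint (hdim : topologicalKrullDim S = 2) (hC : topologicalKrullDim C = 1) (c : C)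
    (hx : ringKrullDim (S.presheaf.stalk (j c)) ≤ 1) : c = genericPoint C := by
  obtain ⟨a, t, m, h1, h2, h3, h4, h5⟩ := Groth.Agent.CycA.IntLocal.exists_dims f (j c)
  obtain ⟨a', t', m', h1', h2', h3', h4', h5'⟩ := Groth.Agent.CycA.IntLocal.exists_dims (j ≫ f) c
  have e1 : m = 2 := by
    rw [h4] at hdim; exact_mod_cast hdim
  have e2 : a ≤ 1 := by
    rw [h1] at hx; exact_mod_cast hx
  have e3 : m' = 1 := by
    rw [h4'] at hC; exact_mod_cast hC
  have e5 : t = t' := by
    have hcl : j '' (closure {c}) = closure {j c} := by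
      rw [← j.isClosedEmbedding.closure_image_eq, Set.image_singleton]
    have hh : topologicalKrullDim (closure {c} : Set C) = topologicalKrullDim (j '' (closure {c}) : Set S) :=
      (IsHomeomorph.topologicalKrullDim_eq _
        ((j.isClosedEmbedding.isEmbedding.homeomorphImage (closure {c})).isHomeomorph))
    rw [hcl, h3, h3'] at hh
    exact_mod_cast hh.symm
  have e6 : a' = 0 := by omega
  have hN : IsLocallyNoetherian C := LocallyOfFiniteType.isLocallyNoetherian (j ≫ f)
  refine (eq_of_specializes (genericPoint_specializes c) ?_).symm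
  rw [h1', e6]
  exact ringKrullDim_nonneg_of_nontrivial

omit [LocallyOfFiniteType f] [IsIntegral S] in
/-- The stalk at the generic point of the curve. -/
theorem simpAt_push (M : C.Modules)
    (hrk : Module.finrank (C.presheaf.stalk (genericPoint C)) (M.presheaf.stalk (genericPoint C)) = 1) :
    SimpAt ((Coh.push j).obj M) (j (genericPoint C)) := by
  intro a b ha
  have h3 := Groth.Agent.Sga67.FlatPre.pushAdd_bijective j j.isClosedEmbedding.isInducing M (genericPoint C)
  let F : Field (C.presheaf.stalk (genericPoint C)) := inferInstanceAs (Field C.functionField)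
  have ha' : Groth.Agent.Fdesc.PullbackStalk.pushAdd j M (genericPoint C) a ≠ 0 := fun h0 =>
    ha (h3.1 (h0.trans (map_zero _).symm))
  have hrk' : @Module.finrank C.functionField (M.presheaf.stalk (genericPoint C)) _ _
    (inferInstanceAs (Module (C.presheaf.stalk (genericPoint C)) (M.presheaf.stalk (genericPoint C)))) = 1 := hrk
  obtain ⟨r, hr⟩ := (finrank_eq_one_iff_of_nonzero' (K := C.functionField) _ ha').1 hrk'
    (Groth.Agent.Fdesc.PullbackStalk.pushAdd j M (genericPoint C) b)
  obtain ⟨s, rfl⟩ := j.stalkMap_surjective (genericPoint C) r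
  refine ⟨s, h3.1 ?_⟩
  rw [← hr]
  exact (Groth.Agent.Fdesc.PullbackStalk.pushAdd_smul j M (genericPoint C) s a).symm

end K459.CurvePts
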