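import Groth.Agent.VarietyB.GGStalk
import Groth.Agent.VarietyA.EulerLES
import Groth.Agent.VarietyA.H0Equiv

/-!
# Globally generated modules in short exact sequences
-/

set_option autoImplicit false
universe u
open CategoryTheory CategoryTheory.Limits AlgebraicGeometry TopologicalSpace Opposite
open Groth.Agent Groth.Agent.CycB.StalkExact Groth.Agent.VarietyB.GGStalk Groth.Agent.VarietyA.EulerLES
open Groth.Agent.VarietyA.H0Equiv

namespace K459.GGSes

variable {X : Scheme.{u}}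

theorem of_ses (T : ShortComplex X.Modules) (hT : T.ShortExact) (h1 : Curv2.IsGloballyGenerated T.X₁)
    (h3 : Curv2.IsGloballyGenerated T.X₃) (hs : Function.Surjective (T.g.app ⊤)) :
    Curv2.IsGloballyGenerated T.X₂ := by
  rw [isGloballyGenerated_iff_span] at h1 h3 ⊢
  intro x
  rw [eq_top_iff]
  intro m _
  have h4 : stalkLin T.g x m ∈ Submodule.span (X.presheaf.stalk x)
      (Set.range fun s : Γ(T.X₃, ⊤) => T.X₃.presheaf.germ ⊤ x trivial s) := by
    rw [h3 x]; trivial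
  have h5 : (Set.range fun s : Γ(T.X₃, ⊤) => T.X₃.presheaf.germ ⊤ x trivial s) ⊆
      (stalkLin T.g x) '' (Set.range fun s : Γ(T.X₂, ⊤) => T.X₂.presheaf.germ ⊤ x trivial s) := by
    rintro _ ⟨s, rfl⟩
    obtain ⟨t, rfl⟩ := hs s
    exact ⟨_, ⟨t, rfl⟩, stalkLin_germ T.g x (U := ⊤) trivial t⟩
  have h6 := Submodule.span_mono (R := X.presheaf.stalk x) h5 h4
  rw [← Submodule.map_span] at h6
  obtain ⟨n, hn, hnm⟩ := h6
  have h7 : stalkLin T.g x (m - n) = 0 := by rw [map_sub, hnm, sub_self]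
  obtain ⟨a, ha⟩ := (stalkLin_exact T hT.exact x (m - n)).1 h7
  have h8 : a ∈ Submodule.span (X.presheaf.stalk x)
      (Set.range fun s : Γ(T.X₁, ⊤) => T.X₁.presheaf.germ ⊤ x trivial s) := by
    rw [h1 x]; trivial
  have h9 : stalkLin T.f x a ∈ Submodule.span (X.presheaf.stalk x)
      (Set.range fun s : Γ(T.X₂, ⊤) => T.X₂.presheaf.germ ⊤ x trivial s) := by
    have h10 : stalkLin T.f x a ∈ Submodule.map (stalkLin T.f x) (Submodule.span (X.presheaf.stalk x)
      (Set.range fun s : Γ(T.X₁, ⊤) => T.X₁.presheaf.germ ⊤ x trivial s)) := ⟨a, h8, rfl⟩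
    rw [Submodule.map_span] at h10
    refine Submodule.span_mono ?_ h10
    rintro _ ⟨_, ⟨s, rfl⟩, rfl⟩
    exact ⟨_, (stalkLin_germ T.f x (U := ⊤) trivial s).symm⟩
  rw [ha] at h9
  have := Submodule.add_mem _ h9 hn
  rwa [sub_add_cancel] at this

theorem app_surjective_of_HH {M N : X.Modules} (g : M ⟶ N) (h : Function.Surjective (mapΓ g 0)) :
    Function.Surjective (g.app ⊤) := by
  intro s
  obtain ⟨y, hy⟩ := (hZeroEquiv N).surjective s
  obtain ⟨z, rfl⟩ := h y
  refine ⟨hZeroEquiv M z, ?_⟩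
  rw [← hy]
  exact Sheaf.H.equiv₀_naturality (isTerminalTop X) ((SheafOfModules.toSheaf X.ringCatSheaf).map g) z

end K459.GGSes
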