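import Groth.Agent.Surf.K459.DualNum
import Groth.Agent.Surf.K459.CurvePts
import Groth.Agent.Surf.K459.GGSes
import Groth.Agent.CycB.DegSky
import Groth.Agent.CurvesA.Uniformizer
import Groth.Agent.VarietyA.GlobGen

/-!
# Global generation of the dual of the base-point-free part
-/

set_option autoImplicit false
universe u
open CategoryTheory CategoryTheory.Limits AlgebraicGeometry TopologicalSpace Opposite
open Groth.Agent Groth.Agent.CohqB Groth.Agent.CohqB.HomSheaf Groth.Agent.Sga2.PnHomAdj
open Groth.Agent.Dcoh.StalkMod Groth.Agent.CycB.StalkExact Groth.Agent.Divis.StalkMod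
open Groth.Agent.VarietyA.EulerLES

namespace K459.DoubleDual

open K459.PdAlg K459.LocFreeKer K459.ExStalk K459.Duality K459.HomLES K459.SimpleStalk K459.PureSupp K459.DualNum

variable {X : Scheme.{u}}

theorem isGloballyGenerated_of_isZero {F : X.Modules} (h : IsZero F) : Curv2.IsGloballyGenerated F :=
  ⟨PUnit, h.from_ (SheafOfModules.free PUnit : X.Modules), ⟨fun a b _ => h.eq_of_src a b⟩⟩

theorem isGloballyGenerated_of_iso {F G : X.Modules} (e : F ≅ G) (h : Curv2.IsGloballyGenerated F) :
    Curv2.IsGloballyGenerated G := by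
  obtain ⟨ι, p, hp⟩ := h
  have h1 : Epi e.hom := IsIso.epi_of_iso e.hom
  have h2 : Epi (p ≫ e.hom) := @epi_comp X.Modules _ _ _ _ p hp e.hom h1
  exact ⟨ι, p ≫ e.hom, h2⟩

theorem isZero_Ex [IsLocallyNoetherian X] [HasInjectiveResolutions X.Modules] {F : X.Modules} (hF : Coh.IsCoh F)
    (h : IsZero F) (n : ℕ) (ω : X.Modules) : IsZero (Ex n F ω) := by
  refine isZero_of_subsingleton _ fun x => subsingleton_stalk_Ex hF ?_ n ω
  have h1 := (CategoryTheory.Functor.map_isZero (stalkFun x) h)
  exact AddCommGrpCat.subsingleton_of_isZero h1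

/-- Codimension-two support on a Noetherian surface: finite set of closed points. -/
theorem finite_support [IsNoetherian X] (hdim : ∀ x : X, ringKrullDim (X.presheaf.stalk x) ≤ 2)
    {R : X.Modules} (hR : Coh.IsCoh R)
    (h : ∀ x : X, ringKrullDim (X.presheaf.stalk x) ≤ 1 → Subsingleton (R.presheaf.stalk x)) :
    (CohB1.support R).Finite ∧ ∀ z ∈ CohB1.support R, IsClosed ({z} : Set X) := by
  have key : ∀ y ∈ CohB1.support R, ringKrullDim (X.presheaf.stalk y) = 2 := by
    intro y hy
    refine le_antisymm (hdim y) ?_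
    by_contra hlt
    have h1 : ringKrullDim (X.presheaf.stalk y) ≤ 1 := by
      rw [not_le] at hlt
      exact (ENat.WithBot.lt_add_one_iff (m := 1)).1 hlt
    exact hy (h y h1)
  refine CurvesA.Uniformizer.finite_of_no_specializations (CohB1.support R)
    (VarietyA.GlobGen.isClosed_support R hR.2) fun z hz z' hz' hzz => ?_
  apply eq_of_specializes hzz
  rw [key z hz, key z' hz']

variable [HasInjectiveResolutions X.Modules]

section LES

variable [IsLocallyNoetherian X] {B G : X.Modules} (i : B ⟶ G) [Mono i] (hB : Coh.IsCoh B) (hG : Coh.IsCoh G)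

include hB hG

omit [HasInjectiveResolutions X.Modules] in
theorem coker_stalk {x : X} (hx : Function.Surjective (stalkLin i x)) :
    Subsingleton ((cokernel i).presheaf.stalk x) := by
  have h1 : (ShortComplex.mk i (cokernel.π i) (cokernel.condition i)).Exact :=
    ShortComplex.exact_of_g_is_cokernel _ (cokernelIsCokernel _)
  have key : ∀ q : (cokernel i).presheaf.stalk x, q = 0 := fun q => by
    obtain ⟨m, rfl⟩ := stalkLin_surjective (cokernel.π i) x q
    obtain ⟨b, rfl⟩ := hx m
    exact (stalkLin_exact _ h1 x).apply_apply_eq_zero b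
  exact ⟨fun a b => by rw [key a, key b]⟩

/-- Where `B → G` is surjective on stalks, `Extⁿ(G, ω) → Extⁿ(B, ω)` is bijective on stalks. -/
theorem exMap_stalk {x : X} (hx : Function.Surjective (stalkLin i x)) (n : ℕ) (ω : X.Modules) :
    Subsingleton ((kernel (exMap i n ω)).presheaf.stalk x) ∧
      Subsingleton ((cokernel (exMap i n ω)).presheaf.stalk x) := by
  let T : ShortComplex X.Modules := ShortComplex.mk i (cokernel.π i) (cokernel.condition i)
  have hT : T.ShortExact :=
    { exact := ShortComplex.exact_of_g_is_cokernel _ (cokernelIsCokernel _)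
      mono_f := inferInstanceAs (Mono i)
      epi_g := inferInstanceAs (Epi (cokernel.π i)) }
  have hQ : Coh.IsCoh (cokernel i) := PerfA.CohSerre.isCoh_cokernel i hB.1 hG
  have hs := coker_stalk i hB hG hx
  have q0 : Subsingleton ((Ex n (cokernel i) ω).presheaf.stalk x) := subsingleton_stalk_Ex hQ hs n ω
  have q1 : Subsingleton ((Ex (n + 1) (cokernel i) ω).presheaf.stalk x) := subsingleton_stalk_Ex hQ hs (n + 1) ω
  have e2 := Sga4h.FunLES.exact₂ (homNat T.g) (homNat T.f) (homNat_comp_zero T) (shortExact_inj hT hB.1 hG.1) ω n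
  have e3 := Sga4h.FunLES.exact₃ (homNat T.g) (homNat T.f) (homNat_comp_zero T) (shortExact_inj hT hB.1 hG.1) ω n
  constructor
  · have key : ∀ k : (kernel (exMap i n ω)).presheaf.stalk x, k = 0 := fun k => by
      apply stalkLin_injective (kernel.ι (exMap i n ω)) x
      rw [map_zero]
      have h1 : stalkLin (exMap i n ω) x (stalkLin (kernel.ι (exMap i n ω)) x k) = 0 := by
        rw [← LinearMap.comp_apply, ← stalkLin_comp, kernel.condition]
        rw [stalkLin_zero]; rfl
      obtain ⟨q, hq⟩ := (stalkLin_exact _ e2 x _).1 h1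
      rw [← hq, Subsingleton.elim q 0, map_zero]
    exact ⟨fun a b => by rw [key a, key b]⟩
  · have h0 : (ShortComplex.mk (exMap i n ω) (cokernel.π (exMap i n ω)) (cokernel.condition _)).Exact :=
      ShortComplex.exact_of_g_is_cokernel _ (cokernelIsCokernel _)
    have key : ∀ k : (cokernel (exMap i n ω)).presheaf.stalk x, k = 0 := fun k => by
      obtain ⟨y, rfl⟩ := stalkLin_surjective (cokernel.π (exMap i n ω)) x k
      obtain ⟨z, rfl⟩ := (stalkLin_exact _ e3 x y).1 (Subsingleton.elim _ _)
      exact (stalkLin_exact _ h0 x).apply_apply_eq_zero z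
    exact ⟨fun a b => by rw [key a, key b]⟩

end LES

section Main

variable (k : Type u) [Field k] [X.Over (Spec (CommRingCat.of k))] [IsProper (X ↘ Spec (CommRingCat.of k))]
  [IsIntegral X] (hreg : ∀ x : X, IsRegularLocalRing (X.presheaf.stalk x))
  (hdim : ∀ x : X, ringKrullDim (X.presheaf.stalk x) ≤ 2) (hdimX : topologicalKrullDim X ≤ (2 : ℕ))
  (hres : KRR.HasEnoughLocFree X)
  {ω : X.Modules} (hSD : SD k ω) (hω : PicF.IsInvertible ω) {L P : X.Modules} (hL : CohB1.IsAmple L)
  (hP : PicF.IsInvertible P) (e : ClSub.IsInverseOf L P)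

/-- A surjection on `H¹` between modules with equal `h¹` gives a surjection on global sections. -/
theorem surjective_of_finrank (T : ShortComplex X.Modules) (hT : T.ShortExact) (h1 : Coh.IsCoh T.X₁)
    (h2 : Coh.IsCoh T.X₂) (h3 : Subsingleton (Coh.HH X T.X₃ 1))
    (h : Module.finrank k (Coh.HH X T.X₁ 1) = Module.finrank k (Coh.HH X T.X₂ 1)) :
    Function.Surjective (mapA k T.g 0) := by
  have hf1 := Fga.HodgeSec.finite_HH' k h1 1
  have hf2 := Fga.HodgeSec.finite_HH' k h2 1
  have hsurj : Function.Surjective (mapA k T.f 1) := fun y => (exactA₂ k T hT 1 y).1 (Subsingleton.elim _ _)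
  have hinj : Function.Injective (mapA k T.f 1) :=
    (LinearMap.injective_iff_surjective_of_finrank_eq_finrank h).2 hsurj
  intro y
  refine (exactA₃ k T hT 0 1 rfl y).1 ?_
  apply hinj
  rw [map_zero]
  exact (exactA₁ k T hT 0 1 rfl).apply_apply_eq_zero y

include hreg hdim hdimX hres hSD hω hL hP e

theorem main {A B : X.Modules} (hA : Pure A) (hAg : Curv2.IsGloballyGenerated A)
    (hAs : ∀ x : X, ringKrullDim (X.presheaf.stalk x) ≤ 1 → SimpAt A x)
    (hAu : ∀ x y : X, ringKrullDim (X.presheaf.stalk x) ≤ 1 → ringKrullDim (X.presheaf.stalk y) ≤ 1 →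
      ¬ Subsingleton (A.presheaf.stalk x) → ¬ Subsingleton (A.presheaf.stalk y) → x = y)
    (i : B ⟶ Ex 1 A ω) [Mono i] (hBc : Coh.IsCoh B) (hBg : Curv2.IsGloballyGenerated B)
    (hB0 : Function.Surjective (mapA k i 0)) :
    Curv2.IsGloballyGenerated (Ex 1 B ω) ∧ Curv2.IsGloballyGenerated (Ex 1 (Ex 1 B ω) ω) := by
  have hN : IsNoetherian X := VarietyA.TwistExist.isNoetherian k X
  have hD : Pure (Ex 1 A ω) := hA.dual hreg hdim hres hω
  have hB : Pure B := hD.of_mono i hBc.1
  obtain ⟨eB⟩ := hB.nonempty_bidual hreg hdim hres hω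
  refine ⟨?_, isGloballyGenerated_of_iso eB.symm hBg⟩
  by_cases hB1 : ∀ x : X, ringKrullDim (X.presheaf.stalk x) ≤ 1 → Subsingleton (B.presheaf.stalk x)
  · exact isGloballyGenerated_of_isZero (isZero_Ex hBc (isZero_of_codim hdim hBc hB.reg hB1) 1 ω)
  push Not at hB1
  obtain ⟨η, hη, hηB⟩ := hB1
  rw [← not_subsingleton_iff_nontrivial] at hηB
  -- the inclusion is surjective in codimension one
  have hsurj : ∀ x : X, ringKrullDim (X.presheaf.stalk x) ≤ 1 → Function.Surjective (stalkLin i x) := by
    intro x hx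
    by_cases hAx : Subsingleton (A.presheaf.stalk x)
    · have h1 := subsingleton_stalk_Ex hA.coh hAx 1 ω
      intro y
      exact ⟨0, Subsingleton.elim _ _⟩
    · have hAη : ¬ Subsingleton (A.presheaf.stalk η) := by
        intro hs
        have h1 := subsingleton_stalk_Ex hA.coh hs 1 ω
        exact hηB ⟨fun a b => stalkLin_injective i η (Subsingleton.elim _ _)⟩
      obtain rfl := hAu x η hx hη hAx hAη
      obtain ⟨F₁, F₀, f, g, w, hS, h₁, h₀⟩ := exists_res hreg hdim hres hA.coh hA.reg
      have hregx := hreg x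
      obtain ⟨π, hπ⟩ := CurvePts.exists_principal (X.presheaf.stalk x) hx
      exact (SimpAt.ex hS h₁ h₀ hω hA.coh hA.tors (hAs x hx) hπ).surjective i hηB
  let φ := exMap i 1 ω
  have hDD : Pure (Ex 1 (Ex 1 A ω) ω) := hD.dual hreg hdim hres hω
  have hDB : Pure (Ex 1 B ω) := hB.dual hreg hdim hres hω
  have hφ : Mono φ := by
    refine Preadditive.mono_of_isZero_kernel φ ?_
    have hKq : Coh.IsCoh (kernel φ) := PerfA.CohSerre.isCoh_kernel φ hDD.coh hDB.coh.1
    exact isZero_of_codim hdim hKq (hDD.reg.of_mono (kernel.ι φ)) fun x hx =>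
      (exMap_stalk i hBc hD.coh (hsurj x hx) 1 ω).1
  let T : ShortComplex X.Modules := ShortComplex.mk φ (cokernel.π φ) (cokernel.condition φ)
  have hT : T.ShortExact :=
    { exact := ShortComplex.exact_of_g_is_cokernel _ (cokernelIsCokernel _)
      mono_f := hφ
      epi_g := inferInstanceAs (Epi (cokernel.π φ)) }
  have hR : Coh.IsCoh (cokernel φ) := PerfA.CohSerre.isCoh_cokernel φ hDD.coh.1 hDB.coh
  obtain ⟨hfin, hcl⟩ := finite_support hdim hR fun x hx => (exMap_stalk i hBc hD.coh (hsurj x hx) 1 ω).2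
  have hRg : Curv2.IsGloballyGenerated (cokernel φ) :=
    VarietyA.GlobGen.isGloballyGenerated_of_finite _ hfin hcl fun x hx => not_not.1 hx
  have hR1 : Subsingleton (Coh.HH X (cokernel φ) 1) :=
    Fga.HodgeSec.subsingleton_HH_of_support k hR 0 (CycB.DegSky.dim_support_le_zero hfin hcl) 1 one_pos
  obtain ⟨eA⟩ := hA.nonempty_bidual hreg hdim hres hω
  have hrank : Module.finrank k (Coh.HH X T.X₁ 1) = Module.finrank k (Coh.HH X T.X₂ 1) := by
    have r1 := finrank_zero_Ex k hreg hdim hdimX hSD hω hL hP e hA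
    have r2 := finrank_zero_Ex k hreg hdim hdimX hSD hω hL hP e hDB
    have r3 : Module.finrank k (Coh.HH X (Ex 1 (Ex 1 A ω) ω) 1) = Module.finrank k (Coh.HH X A 1) :=
      (equivA k eA 1).finrank_eq
    have r4 : Module.finrank k (Coh.HH X (Ex 1 (Ex 1 B ω) ω) 0) = Module.finrank k (Coh.HH X B 0) :=
      (equivA k eB 0).finrank_eq
    have r5 : Module.finrank k (Coh.HH X B 0) = Module.finrank k (Coh.HH X (Ex 1 A ω) 0) := by
      have hinj : Function.Injective (mapA k i 0) := by
        have h := injectiveA₀ k (ShortComplex.mk i (cokernel.π i) (cokernel.condition i))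
          { exact := ShortComplex.exact_of_g_is_cokernel _ (cokernelIsCokernel _)
            mono_f := inferInstanceAs (Mono i)
            epi_g := inferInstanceAs (Epi (cokernel.π i)) }
        exact h
      exact (LinearEquiv.ofBijective (mapA k i 0) ⟨hinj, hB0⟩).finrank_eq
    change Module.finrank k (Coh.HH X (Ex 1 (Ex 1 A ω) ω) 1) = Module.finrank k (Coh.HH X (Ex 1 B ω) 1)
    rw [r3, ← r1, ← r5, ← r4, r2]
  have hs := surjective_of_finrank k T hT hDD.coh hDB.coh hR1 hrank
  exact GGSes.of_ses T hT (isGloballyGenerated_of_iso eA.symm hAg) hRg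
    (GGSes.app_surjective_of_HH T.g fun y => hs y)

end Main

end K459.DoubleDual
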