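import Groth.Agent.Surf.K459.HomInj
import Groth.Agent.Sga4h.FunLES
import Groth.Agent.Krr.H463.HomBasis

/-!
# Sheaf Ext as right derived functors of the internal Hom, long exact sequences in the first variable
-/

set_option autoImplicit false
universe u

open CategoryTheory CategoryTheory.Limits AlgebraicGeometry Opposite TopologicalSpace
open Groth.Agent Groth.Agent.CohqB Groth.Agent.CohqB.HomSheaf Groth.Agent.Sga2.PnHomAdj Groth.Agent.Sga2.PnHomExact
open Groth.Agent.Sga67.Sec Groth.Agent.Sga67.LocBasis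

namespace K459.HomLES

variable {X : Scheme.{u}}

section Right

variable {E N N' : X.Modules}

/-- `Hom(E, -)` preserves epimorphisms for `E` finite locally free. -/
theorem epi_homMapRight (hE : FlatMod.IsFinLocFree E) (g : N ⟶ N') [Epi g] : Epi (homMapRight E g) := by
  apply PerfB.ModExact.epi_of_locally_surjective
  intro U y x hx
  obtain ⟨V, hVU, hxV, n, b, hb⟩ := Sga67.TensorOps.exists_basis_nhd hE hx
  have hloc : ∀ i : Fin n, ∃ (W : X.Opens) (hW : W ≤ V) (t : Γ(N, W)), x ∈ W ∧
      g.app W t = N'.presheaf.map (homOfLE hW).op (comp y V hVU (b i)) := fun i =>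
    Dcoh.Restrict.exists_local_preimage g V _ x hxV
  choose W hW t hx ht using hloc
  have hVW : V ⊓ Finset.univ.inf W ≤ V := inf_le_left
  have hWi : ∀ i, V ⊓ Finset.univ.inf W ≤ W i := fun i => inf_le_right.trans (Finset.inf_le (Finset.mem_univ i))
  have hxW : x ∈ V ⊓ Finset.univ.inf W := by
    refine ⟨hxV, ?_⟩
    have : ∀ s : Finset (Fin n), x ∈ s.inf W := by
      intro s
      induction s using Finset.induction_on with
      | empty => simp
      | insert a s ha ih => rw [Finset.inf_insert]; exact ⟨hx a, ih⟩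
    exact this _
  obtain ⟨s, hs⟩ := (Krr.H463.HomBasis.ev_bijective (N := N) hb hVW).2 (fun i => res N (hWi i) (t i))
  refine ⟨V ⊓ Finset.univ.inf W, hVW.trans hVU, hxW, s, ?_⟩
  apply (Krr.H463.HomBasis.ev_bijective (N := N') hb hVW).1
  funext i
  have h1 : Krr.H463.HomBasis.ev N b hVW s i = res N (hWi i) (t i) := congrFun hs i
  have h2 : Krr.H463.HomBasis.ev N' b hVW ((homMapRight E g).app _ s) i =
      g.app _ (Krr.H463.HomBasis.ev N b hVW s i) := rfl
  rw [h2, h1]
  have h3 : g.app _ (res N (hWi i) (t i)) = res N' (hWi i) (g.app _ (t i)) :=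
    (congr($(g.mapPresheaf.naturality (homOfLE (hWi i)).op) (t i)))
  rw [h3, ht]
  have h4 : Krr.H463.HomBasis.ev N' b hVW
      ((homSheaf E N').presheaf.map (homOfLE (hVW.trans hVU)).op y) i =
      comp y _ (hVW.trans hVU) (res E hVW (b i)) := rfl
  rw [h4]
  have h5 : comp y _ (hVW.trans hVU) (res E hVW (b i)) = res N' hVW (comp y V hVU (b i)) :=
    comp_map y hVU hVW (b i)
  rw [h5]
  exact Sga67.Sec.res_res N' _ _ _

instance additive_homF (E : X.Modules) : (homF E).Additive where
  map_add {N N' f g} := by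
    refine homSheaf_hom_ext _ _ fun U s m => ?_
    change (f + g).app U (comp s U le_rfl m) = _
    rfl

instance isRightAdjoint_homF (E : X.Modules) : (homF E).IsRightAdjoint := (homAdj E).isRightAdjoint

instance preservesFiniteLimits_homF (E : X.Modules) : PreservesFiniteLimits (homF E) :=
  have : PreservesLimitsOfSize.{0, 0} (homF E) := (homAdj E).rightAdjoint_preservesLimits
  PreservesLimits.preservesFiniteLimits _

theorem preservesFiniteColimits_homF (hE : FlatMod.IsFinLocFree E) : PreservesFiniteColimits (homF E) := by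
  have h : ∀ S : ShortComplex X.Modules, S.ShortExact → (S.map (homF E)).ShortExact := by
    intro S hS
    have h0 : ∀ S : ShortComplex X.Modules, S.ShortExact → (S.map (homF E)).Exact ∧ Mono ((homF E).map S.f) :=
      (List.TFAE.out (Functor.preservesFiniteLimits_tfae (homF E)) 3 0 rfl rfl).1
        (preservesFiniteLimits_homF E)
    obtain ⟨h1, h2⟩ := h0 S hS
    have := hS.epi_g
    exact { exact := h1, mono_f := h2, epi_g := epi_homMapRight hE S.g }
  have h3 : PreservesFiniteLimits (homF E) ∧ PreservesFiniteColimits (homF E) :=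
    (List.TFAE.out (Functor.exact_tfae (homF E)) 0 3 rfl rfl).1 h
  exact h3.2

end Right

section Left

/-- Precomposition as a natural transformation. -/
noncomputable def homNat {M M' : X.Modules} (f : M' ⟶ M) : homF M ⟶ homF M' where
  app N := homMapLeft f N
  naturality _ _ _ := rfl

theorem homNat_app {M M' : X.Modules} (f : M' ⟶ M) (N : X.Modules) : (homNat f).app N = homMapLeft f N := rfl

variable [HasInjectiveResolutions X.Modules]

/-- The Ext sheaf. -/
noncomputable abbrev Ex (n : ℕ) (M N : X.Modules) : X.Modules := ((homF M).rightDerived n).obj N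

theorem isZero_Ex_succ_of_isFinLocFree {E : X.Modules} (hE : FlatMod.IsFinLocFree E) (N : X.Modules) (n : ℕ) :
    IsZero (Ex (n + 1) E N) :=
  have := preservesFiniteColimits_homF hE
  Sga4h.FunLES.isZero_rightDerived_of_exact (homF E) N n

/-- The map induced on Ext sheaves by a morphism in the first variable. -/
noncomputable abbrev exMap {M M' : X.Modules} (f : M' ⟶ M) (n : ℕ) (N : X.Modules) : Ex n M N ⟶ Ex n M' N :=
  (NatTrans.rightDerived (homNat f) n).app N

variable {S : ShortComplex X.Modules} (hS : S.ShortExact) (h₁ : Coh.IsQCoh S.X₁) (h₂ : Coh.IsQCoh S.X₂)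

omit [HasInjectiveResolutions X.Modules] in
theorem homNat_comp_zero (S : ShortComplex X.Modules) (N : X.Modules) :
    (homNat S.g).app N ≫ (homNat S.f).app N = 0 := (homSC S N).zero

omit [HasInjectiveResolutions X.Modules] in
include hS h₁ h₂ in
theorem shortExact_inj (I : X.Modules) (_ : Injective I) :
    (ShortComplex.mk ((homNat S.g).app I) ((homNat S.f).app I) (homNat_comp_zero S I)).ShortExact :=
  HomInj.shortExact_homSC hS h₁ h₂ I

/-- The connecting map `Hom(X₁, N) ⟶ Ext¹(X₃, N)`. -/
noncomputable def conn₀ (N : X.Modules) : homSheaf S.X₁ N ⟶ Ex 1 S.X₃ N :=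
  Sga4h.FunLES.δ₀ (homNat S.g) (homNat S.f) (homNat_comp_zero S) (shortExact_inj hS h₁ h₂) N

theorem comp_conn₀ (N : X.Modules) : homMapLeft S.f N ≫ conn₀ hS h₁ h₂ N = 0 :=
  Sga4h.FunLES.comp_δ₀ (homNat S.g) (homNat S.f) (homNat_comp_zero S) (shortExact_inj hS h₁ h₂) N

theorem exact_conn₀ (N : X.Modules) :
    (ShortComplex.mk (homMapLeft S.f N) (conn₀ hS h₁ h₂ N) (comp_conn₀ hS h₁ h₂ N)).Exact :=
  Sga4h.FunLES.exact₀ (homNat S.g) (homNat S.f) (homNat_comp_zero S) (shortExact_inj hS h₁ h₂) N

theorem epi_conn₀ (N : X.Modules) (h : IsZero (Ex 1 S.X₂ N)) : Epi (conn₀ hS h₁ h₂ N) :=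
  Sga4h.FunLES.epi_δ₀ (homNat S.g) (homNat S.f) (homNat_comp_zero S) (shortExact_inj hS h₁ h₂) N h

include hS h₁ h₂ in
/-- `Ext¹(X₃, N)` as a cokernel. -/
theorem nonempty_iso_cokernel (N : X.Modules) (h : IsZero (Ex 1 S.X₂ N)) :
    Nonempty (Ex 1 S.X₃ N ≅ cokernel (homMapLeft S.f N)) := by
  have := epi_conn₀ hS h₁ h₂ N h
  exact ⟨IsColimit.coconePointUniqueUpToIso (exact_conn₀ hS h₁ h₂ N).gIsCokernel
    (colimit.isColimit _)⟩

end Left

section Compare

variable [HasInjectiveResolutions X.Modules]

/-- The sheaf Ext of the statements. -/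
theorem nonempty_rightDerived_iso (F N : X.Modules) [DCoh.HasSheafHom F] [(DCoh.sheafHom F).Additive] (n : ℕ) :
    Nonempty (((DCoh.sheafHom F).rightDerived n).obj N ≅ Ex n F N) := by
  let e := sheafHomIso F
  refine ⟨⟨(NatTrans.rightDerived e.hom n).app N, (NatTrans.rightDerived e.inv n).app N, ?_, ?_⟩⟩
  · rw [← NatTrans.comp_app, ← NatTrans.rightDerived_comp, e.hom_inv_id, NatTrans.rightDerived_id]
    rfl
  · rw [← NatTrans.comp_app, ← NatTrans.rightDerived_comp, e.inv_hom_id, NatTrans.rightDerived_id]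
    rfl

/-- Isomorphic first arguments. -/
noncomputable def exIso {F F' : X.Modules} (e : F ≅ F') (n : ℕ) (N : X.Modules) : Ex n F N ≅ Ex n F' N where
  hom := exMap e.inv n N
  inv := exMap e.hom n N
  hom_inv_id := by
    rw [← NatTrans.comp_app, ← NatTrans.rightDerived_comp]
    have : homNat e.inv ≫ homNat e.hom = 𝟙 (homF F) := by
      ext N : 2
      change homMapLeft e.inv N ≫ homMapLeft e.hom N = _
      rw [homMapLeft_comp, e.hom_inv_id, homMapLeft_id]
      rfl
    rw [this, NatTrans.rightDerived_id]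
    rfl
  inv_hom_id := by
    rw [← NatTrans.comp_app, ← NatTrans.rightDerived_comp]
    have : homNat e.hom ≫ homNat e.inv = 𝟙 (homF F') := by
      ext N : 2
      change homMapLeft e.hom N ≫ homMapLeft e.inv N = _
      rw [homMapLeft_comp, e.inv_hom_id, homMapLeft_id]
      rfl
    rw [this, NatTrans.rightDerived_id]
    rfl

end Compare

end K459.HomLES
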