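import Groth.Agent.Surf.K459.LocFreeKer
import Groth.Agent.CycA.IntLocal
import Groth.Agent.Sga67.FlatPre
import Groth.Agent.Ega1.ClosedUnit
import Groth.Prelude.Def_TorSh

/-!
# Direct images of torsion-free modules on curves in surfaces
-/

set_option autoImplicit false
universe u
open CategoryTheory CategoryTheory.Limits AlgebraicGeometry TopologicalSpace Opposite

namespace K459.CurveReg

open K459.PdAlg K459.LocFreeKer

variable {k : Type u} [Field k]

/-- A closed point of a surface lying on a curve is not the generic point of the curve. -/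
theorem ringKrullDim_stalk_eq_one {S : Scheme.{u}} (f : S ⟶ Spec (CommRingCat.of k)) [LocallyOfFiniteType f]
    [IsIntegral S] {n : ℕ} (hdim : topologicalKrullDim S = n) {C : Scheme.{u}} (j : C ⟶ S) [IsClosedImmersion j]
    [IsIntegral C] (hC : topologicalKrullDim C = 1) (c : C)
    (hx : ringKrullDim (S.presheaf.stalk (j c)) = n) : ringKrullDim (C.presheaf.stalk c) = 1 := by
  obtain ⟨a, t, m, h1, h2, h3, h4, h5⟩ := Groth.Agent.CycA.IntLocal.exists_dims f (j c)
  obtain ⟨a', t', m', h1', h2', h3', h4', h5'⟩ := Groth.Agent.CycA.IntLocal.exists_dims (j ≫ f) c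
  have e1 : m = n := by
    rw [h4] at hdim; exact_mod_cast hdim
  have e2 : a = n := by
    rw [h1] at hx; exact_mod_cast hx
  have e3 : m' = 1 := by
    rw [h4'] at hC; exact_mod_cast hC
  have e4 : t = 0 := by omega
  have hle : topologicalKrullDim (closure {c} : Set C) ≤ topologicalKrullDim (closure {j c} : Set S) := by
    have hmap : ∀ y : (closure {c} : Set C), j y.1 ∈ (closure {j c} : Set S) := by
      intro y
      have h6 : (c : C) ⤳ y.1 := specializes_iff_mem_closure.2 y.2
      exact specializes_iff_mem_closure.1 (h6.map j.continuous)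
    let g : (closure {c} : Set C) → (closure {j c} : Set S) := fun y => ⟨j y.1, hmap y⟩
    have hg : Topology.IsInducing g := by
      have h7 : Topology.IsInducing (Subtype.val ∘ g) :=
        (j.isClosedEmbedding.isInducing.comp Topology.IsInducing.subtypeVal)
      exact Topology.IsInducing.of_comp_iff Topology.IsInducing.subtypeVal |>.1 h7
    exact hg.topologicalKrullDim_le
  have e5 : t' ≤ t := by
    rw [h3, h3'] at hle; exact_mod_cast hle
  have e6 : a' = 1 := by omega
  rw [h1', e6]; rfl

theorem reg1_push {S : Scheme.{u}} (f : S ⟶ Spec (CommRingCat.of k)) [LocallyOfFiniteType f]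
    [IsIntegral S] (hdim : topologicalKrullDim S = 2) {C : Scheme.{u}} (j : C ⟶ S) [IsClosedImmersion j]
    [IsIntegral C] (hC : topologicalKrullDim C = 1) (M : C.Modules) (hM : TorSh.IsTorsionFree M) :
    Reg1 ((Coh.push j).obj M) := by
  intro x hx
  by_cases hxj : x ∈ Set.range j
  · obtain ⟨c, rfl⟩ := hxj
    right
    have h1 := ringKrullDim_stalk_eq_one (n := 2) f hdim j hC c hx
    obtain ⟨b, hb, hb0⟩ : ∃ b ∈ IsLocalRing.maximalIdeal (C.presheaf.stalk c), b ≠ 0 := by
      by_contra hcon
      push Not at hcon
      have hf : IsField (C.presheaf.stalk c) :=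
        IsLocalRing.isField_iff_maximalIdeal_eq.2 ((Submodule.eq_bot_iff _).2 hcon)
      rw [ringKrullDim_eq_zero_of_isField hf] at h1
      exact absurd h1 (by decide)
    obtain ⟨a, rfl⟩ := j.stalkMap_surjective c b
    have ha : a ∈ IsLocalRing.maximalIdeal (S.presheaf.stalk (j c)) := by
      rw [IsLocalRing.mem_maximalIdeal]
      intro hu
      exact hb (hu.map (j.stalkMap c).hom)
    refine ⟨a, ha, ?_⟩
    have hreg : IsRegular ((j.stalkMap c).hom a) := IsRegular.of_ne_zero hb0
    have h2 := (hM c).isSMulRegular hreg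
    have h3 := Groth.Agent.Sga67.FlatPre.pushAdd_bijective j j.isClosedEmbedding.isInducing M c
    intro y y' hyy
    apply h3.1
    apply h2
    have h4 := congrArg (Groth.Agent.Fdesc.PullbackStalk.pushAdd j M c) hyy
    change (j.stalkMap c).hom a • _ = (j.stalkMap c).hom a • _
    rw [← Groth.Agent.Fdesc.PullbackStalk.pushAdd_smul, ← Groth.Agent.Fdesc.PullbackStalk.pushAdd_smul]
    exact h4
  · left
    exact Groth.Agent.Ega1.ClosedUnit.subsingleton_stalk_pushforward j j.isClosedEmbedding.isClosed_range M x hxj

end K459.CurveReg
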