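import Groth.Agent.Surf.K459.PdAlg
import Groth.Agent.Divis.StalkMod
import Groth.Agent.Dcoh.StalkMod
import Groth.Agent.PerfA.CohSerre
import Groth.Agent.CycB.CohProp

/-!
# Kernels of epimorphisms from finite locally free modules on regular schemes of dimension two
-/

set_option autoImplicit false
universe u
open CategoryTheory CategoryTheory.Limits AlgebraicGeometry TopologicalSpace Opposite

namespace K459.LocFreeKer

open Groth.Agent.Dcoh.StalkMod Groth.Agent.CycB.StalkExact Groth.Agent.Divis.StalkMod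
open K459.PdAlg

variable {X : Scheme.{u}}

/-- At points with two-dimensional local ring the stalk is zero or has a regular element. -/
def Reg1 (F : X.Modules) : Prop :=
  ∀ x : X, ringKrullDim (X.presheaf.stalk x) = 2 → HasReg (X.presheaf.stalk x) (F.presheaf.stalk x)

theorem Reg1.of_mono {F G : X.Modules} (f : F ⟶ G) [Mono f] (h : Reg1 G) : Reg1 F := fun x hx =>
  (h x hx).of_injective (stalkLin f x) (stalkLin_injective f x)

/-- The kernel of an epimorphism from a finite locally free module onto a coherent module satisfying `Reg1`. -/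
theorem isFinLocFree_of_shortExact [IsLocallyNoetherian X]
    (hreg : ∀ x : X, IsRegularLocalRing (X.presheaf.stalk x))
    (hdim : ∀ x : X, ringKrullDim (X.presheaf.stalk x) ≤ 2) (S : ShortComplex X.Modules) (hS : S.ShortExact)
    (h₂ : FlatMod.IsFinLocFree S.X₂) (h₃ : Coh.IsQCoh S.X₃) (h : Reg1 S.X₃) :
    FlatMod.IsFinLocFree S.X₁ := by
  have hc2 := Groth.Agent.PerfA.CohSerre.isCoh_of_isFinLocFree h₂
  have hmono := hS.mono_f
  have hepi := hS.epi_g
  have hc1 : Coh.IsCoh S.X₁ := by
    refine Groth.Agent.CycB.CohProp.isCoh_of_mono S.f ?_ hc2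
    have e : kernel S.g ≅ S.X₁ := (kernelIsKernel S.g).conePointUniqueUpToIso hS.exact.fIsKernel
    have hk := Groth.Agent.CohqB.QC4.isQuasicoherent_kernel S.g hc2.1 h₃
    exact (SheafOfModules.isQuasicoherent X.ringCatSheaf).prop_of_iso e hk
  refine isFinLocFree_of_free_stalk hc1 fun x => ?_
  have := hreg x
  obtain ⟨h4, h5⟩ := finite_free_stalk hc2.1 h₂ x
  exact free_of_exact (hdim x) (stalkLin S.f x) (stalkLin S.g x) (stalkLin_injective _ x)
    (stalkLin_exact S hS.exact x) (stalkLin_surjective _ x) (h x)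

theorem isFinLocFree_kernel [IsLocallyNoetherian X]
    (hreg : ∀ x : X, IsRegularLocalRing (X.presheaf.stalk x))
    (hdim : ∀ x : X, ringKrullDim (X.presheaf.stalk x) ≤ 2) {F G : X.Modules} (p : F ⟶ G) [Epi p]
    (hF : FlatMod.IsFinLocFree F) (hG : Coh.IsQCoh G) (h : Reg1 G) :
    FlatMod.IsFinLocFree (kernel p) :=
  isFinLocFree_of_shortExact hreg hdim (ShortComplex.mk (kernel.ι p) p (kernel.condition p))
    { exact := ShortComplex.exact_of_f_is_kernel _ (kernelIsKernel _) } hF hG h

/-- A module with a two-term finite locally free resolution satisfies `Reg1`. -/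
theorem reg1_of_shortExact [IsLocallyNoetherian X]
    (hreg : ∀ x : X, IsRegularLocalRing (X.presheaf.stalk x)) (S : ShortComplex X.Modules) (hS : S.ShortExact)
    (h₁ : FlatMod.IsFinLocFree S.X₁) (h₂ : FlatMod.IsFinLocFree S.X₂) : Reg1 S.X₃ := by
  intro x hx
  have hmono := hS.mono_f
  have hepi := hS.epi_g
  have := hreg x
  obtain ⟨h4, h5⟩ := finite_free_stalk (Groth.Agent.PerfA.CohSerre.isCoh_of_isFinLocFree h₁).1 h₁ x
  obtain ⟨h6, h7⟩ := finite_free_stalk (Groth.Agent.PerfA.CohSerre.isCoh_of_isFinLocFree h₂).1 h₂ x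
  exact hasReg_of_exact hx (stalkLin S.f x) (stalkLin S.g x) (stalkLin_injective _ x)
    (stalkLin_exact S hS.exact x) (stalkLin_surjective _ x)

end K459.LocFreeKer
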