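import Groth.Agent.Surf.K464.FibCurve
import Groth.Agent.Surf.K455.SmoothRR
import Groth.Agent.Surf.K456.FibDiv
import Groth.Agent.Picfga.CurveRelDim
import Groth.Agent.S3234
import Groth.Agent.CurvesB.SmoothCurveSerre2
import Groth.Agent.Fdesc.GeomAlgClosed

/-!
# Hodge index and the inequality `ω² ≤ -4g(g-1) E²` for a section of a fibration
-/

set_option autoImplicit false
universe u
open CategoryTheory CategoryTheory.Limits AlgebraicGeometry Opposite TopologicalSpace

namespace K459.Arak

open Groth.Agent Groth.Agent.Grpsch.PicGrp Groth.Agent.Fga.PicMon Groth.Agent.Fga.AltSum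
open K464.Base K464.Curves K464.DegCurve K464.Cohom K464.PtCurve K464.FibCurve

section Hodge

variable (k : Type u) [Field k] {X : Scheme.{u}} [X.Over (Spec (CommRingCat.of k))]
  [IsProper (X ↘ Spec (CommRingCat.of k))] (hdim : topologicalKrullDim X = 2)

include hdim

theorem intNum_one (A F : X.Modules) : FGA.intNum k X 2 ![A] F =
    Curv2.euler k X F - Curv2.euler k X (CohB1.tensorMod F A) := by
  rw [intNum_eq_dSum]
  have e : (fun i => mc ((![A] : Fin 1 → X.Modules) i)) = (Fin.cons (mc A) Fin.elim0 : Fin 1 → MC X) := by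
    funext i; fin_cases i; rfl
  rw [e, dSum_cons, dSum_zero, dSum_zero, chiCl_one, mul_one, chiCl_mc,
    Fga.IntAdd.eulerCharLE_eq k X 2 hdim.le, Fga.IntAdd.eulerCharLE_eq k X 2 hdim.le]
  rw [euler_congr k X (Ega2.Tens.swap A F)]

/-- **Hodge index**: a class orthogonal to a class of square zero which is not numerically trivial has nonpositive
square. -/
theorem dot_self_nonpos [GeometricallyIrreducible (X ↘ Spec (CommRingCat.of k))] {D φ : Pic X}
    (h1 : dot k X φ φ = 0) (h2 : dot k X φ D = 0) {E : X.IdealSheafData} [IsIntegral E.subscheme]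
    (hE : topologicalKrullDim E.subscheme = 1) (h3 : degOn k X E φ ≠ 0) : dot k X D D ≤ 0 := by
  by_contra hcon
  push Not at hcon
  obtain ⟨H', hH', rfl⟩ := exists_mk D
  obtain ⟨L', hL', rfl⟩ := exists_mk φ
  obtain ⟨H, hH, ⟨eH⟩⟩ := exists_inverse hH'
  obtain ⟨L, hL, ⟨eL⟩⟩ := exists_inverse hL'
  have key := S3234.result k X hdim H H' L L' hH hL ⟨Ega2.Tens.swap H H' ≪≫ eH⟩ ⟨Ega2.Tens.swap L L' ≪≫ eL⟩
    (by rw [intNum_eq_dot k X hdim.le hH' hH']; exact hcon)
    (by rw [intNum_eq_dot k X hdim.le hL' hH']; exact h2)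
    (by rw [intNum_eq_dot k X hdim.le hL' hL', h1]) E.subscheme E.subschemeι hE
  rw [intNum_one k hdim] at key
  apply h3
  rw [degOn_mk]
  have h4 : Curv2.euler k X (ClSub.quotMod E) - Curv2.euler k X (CohB1.tensorMod (ClSub.quotMod E) L') = 0 := key
  linarith

end Hodge

section Fib

variable (k : Type u) [Field k] [IsAlgClosed k] {X C : Scheme.{u}} [X.Over (Spec (CommRingCat.of k))]
  [C.Over (Spec (CommRingCat.of k))] [IsProper (X ↘ Spec (CommRingCat.of k))] [IsProper (C ↘ Spec (CommRingCat.of k))]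
  [IsIntegral X] [IsIntegral C] [Smooth (X ↘ Spec (CommRingCat.of k))] [Smooth (C ↘ Spec (CommRingCat.of k))]
  (hdim : topologicalKrullDim X = 2) (hdimC : topologicalKrullDim C = 1) (f : X ⟶ C)
  (hf : f ≫ (C ↘ Spec (CommRingCat.of k)) = X ↘ Spec (CommRingCat.of k)) [IsDominant f]

omit [IsIntegral X] [IsIntegral C] [IsAlgClosed k] [IsProper (X ↘ Spec (CommRingCat.of k))]
  [IsProper (C ↘ Spec (CommRingCat.of k))] [Smooth (X ↘ Spec (CommRingCat.of k))] [X.Over (Spec (CommRingCat.of k))] in
include k in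
theorem regC (c : C) : IsRegularLocalRing (C.presheaf.stalk c) := S1535.result k C c

omit [IsAlgClosed k] in
include hdimC in
/-- `deg Ω_C = -2 χ(O_C)`. -/
theorem degC_omega (hΩ : PicF.IsInvertible (Omega.sheaf (C ↘ Spec (CommRingCat.of k)))) :
    degC k C (mk _ hΩ) = -2 * Curv2.euler k C (Coh.structureModule C) := by
  obtain ⟨h1, h2⟩ := CurvesB.SmoothCurveSerre.serre_duality k C
    (show Curve.IsSmoothProperCurve k C (C ↘ Spec (CommRingCat.of k)) from
      ⟨inferInstance, inferInstance, inferInstance, hdimC⟩)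
  have e1 : ∀ F : C.Modules, Curv2.euler k C F =
      (Module.finrank k (Coh.HH C F 0) : ℤ) - (Module.finrank k (Coh.HH C F 1) : ℤ) := fun F => by
    rw [← Fga.IntAdd.eulerCharLE_eq k C 1 hdimC.le]
    unfold FGA.eulerCharLE
    rw [Finset.sum_range_succ, Finset.sum_range_one]
    ring
  rw [degC_mk, Curv2.deg, e1, e1 (Coh.structureModule C), h1, h2]
  push_cast
  ring

include hf in
omit [IsAlgClosed k] [IsProper (X ↘ Spec (CommRingCat.of k))] [IsProper (C ↘ Spec (CommRingCat.of k))]
  [IsIntegral X] [IsIntegral C] [Smooth (X ↘ Spec (CommRingCat.of k))] [Smooth (C ↘ Spec (CommRingCat.of k))]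
  [IsDominant f] in
/-- The degree on a section of the pullback of a class of the base. -/
theorem degOn_section {E : X.IdealSheafData} (hE : IsIso (E.subschemeι ≫ f)) (A : Pic C) :
    degOn k X E (pull f A) = degC k C A := by
  let _ := overC k X E
  rw [degOn_eq_degC, ← pull_comp]
  obtain ⟨L, hL, rfl⟩ := exists_mk A
  rw [pull_mk, degC_mk, degC_mk]
  have he : (asIso (E.subschemeι ≫ f)).hom ≫ (C ↘ Spec (CommRingCat.of k)) =
      E.subscheme ↘ Spec (CommRingCat.of k) := by
    rw [asIso_hom, Category.assoc, hf]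
    rfl
  exact CurvesC.DegIso.deg_pullback_iso k (asIso (E.subschemeι ≫ f)) he L 1

include hf in
omit [IsAlgClosed k] [IsProper (X ↘ Spec (CommRingCat.of k))] [IsProper (C ↘ Spec (CommRingCat.of k))]
  [IsIntegral X] [IsIntegral C] [Smooth (X ↘ Spec (CommRingCat.of k))] [Smooth (C ↘ Spec (CommRingCat.of k))]
  [IsDominant f] in
theorem euler_section {E : X.IdealSheafData} (hE : IsIso (E.subschemeι ≫ f)) :
    Curv2.euler k X (ClSub.quotMod E) = Curv2.euler k C (Coh.structureModule C) := by
  let _ := overC k X E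
  rw [euler_quotMod_sub]
  have he : (asIso (E.subschemeι ≫ f)).hom ≫ (C ↘ Spec (CommRingCat.of k)) =
      E.subscheme ↘ Spec (CommRingCat.of k) := by
    rw [asIso_hom, Category.assoc, hf]
    rfl
  rw [← CurvesC.DegIso.euler_pullback_iso k (asIso (E.subschemeι ≫ f)) he (Coh.structureModule C)]
  exact (euler_congr k _ (CurvesA.HHMap.pullbackUnit _)).symm

omit [IsAlgClosed k] [C.Over (Spec (CommRingCat.of k))] [IsProper (C ↘ Spec (CommRingCat.of k))]
  [IsIntegral C] [IsDominant f] in
include hdim in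
/-- Adjunction. -/
theorem adjunction {WX : X.Modules} (hWX : ExtPow.IsExtPow 2 (Omega.sheaf (X ↘ Spec (CommRingCat.of k))) WX)
    (hW : PicF.IsInvertible WX) {D : X.IdealSheafData} (hD : BlowUp.IsEffCartierIdeal D) :
    dot k X (ic D hD) (mk WX hW) = dot k X (ic D hD) (ic D hD) + 2 * Curv2.euler k X (ClSub.quotMod D) := by
  have h1 : SmoothOfRelativeDimension 2 (X ↘ Spec (CommRingCat.of k)) :=
    Picfga.CurveRelDim.smoothOfRelativeDimension_of_topologicalKrullDim_eq k X _ 2 hdim
  let _ := overC k X D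
  have hDp := isProper_sub k X D
  have hI : PicF.IsInvertible (ClSub.idealMod D) := Dix.IdealModCartier.isInvertible_idealMod hD
  have h2 := K455.SmoothRR.adjunction k hWX hdim.le D.subschemeι rfl
    (by rw [Scheme.IdealSheafData.ker_subschemeι]; exact hI)
  rw [Scheme.IdealSheafData.ker_subschemeι, intNum_eq_dot k X hdim.le hI hI, intNum_eq_dot k X hdim.le hI hW,
    Fga.IntAdd.eulerCharLE_eq k D.subscheme 2
      ((D.subschemeι.isClosedEmbedding.isInducing.topologicalKrullDim_le).trans hdim.le), ← euler_quotMod_sub] at h2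
  unfold ic
  linarith

include hdim hdimC hf in
theorem main {WX : X.Modules} (hWX : ExtPow.IsExtPow 2 (Omega.sheaf (X ↘ Spec (CommRingCat.of k))) WX)
    (hW : PicF.IsInvertible WX) {M : X.Modules} (hM : PicF.IsInvertible M)
    (hMi : ClSub.IsInverseOf M ((Scheme.Modules.pullback f).obj (Omega.sheaf (C ↘ Spec (CommRingCat.of k)))))
    (hΩ : PicF.IsInvertible (Omega.sheaf (C ↘ Spec (CommRingCat.of k))))
    {q : C} (hq : IsClosed ({q} : Set C)) (g : ℤ)
    (hg : Curv2.euler k X (ClSub.quotMod (f.fiberι q).ker) = 1 - g)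
    {E : X.IdealSheafData} (hE : IsIso (E.subschemeι ≫ f)) :
    dot k X (mk WX hW * mk M hM) (mk WX hW * mk M hM) ≤
      -(4 * g * (g - 1)) * FGA.intNum k X 2 ![ClSub.idealMod E, ClSub.idealMod E] (Coh.structureModule X) := by
  have hd : topologicalKrullDim X ≤ (2 : ℕ) := hdim.le
  have hregC : ∀ c : C, IsRegularLocalRing (C.presheaf.stalk c) := fun c => S1535.result k C c
  -- the section is an integral curve
  have hneE : Nonempty E.subscheme := ⟨inv (E.subschemeι ≫ f) (Classical.arbitrary C)⟩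
  have hintE : IsIntegral E.subscheme := isIntegral_of_isOpenImmersion (asIso (E.subschemeι ≫ f)).hom
  have hdimE : topologicalKrullDim E.subscheme = 1 := by
    rw [← hdimC]
    exact IsHomeomorph.topologicalKrullDim_eq _ ((E.subschemeι ≫ f).homeomorph.isHomeomorph)
  have hCE : IsCurve E := ⟨hintE, (dim_sub X E).symm.trans hdimE⟩
  have hEff := isEff_of_smooth k hdim hCE
  -- the fibre
  have hEpt := isEff_pt k (C ↘ Spec (CommRingCat.of k)) hdimC hregC hq
  have hFib := isEff_fibre f hdimC hq hEpt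
  have hker : (f.fiberι q).ker = (pt hq).comap f := by
    have : IsClosedImmersion (C.fromSpecResidueField q) := isClosed_singleton_iff_isClosedImmersion.mp hq
    rw [K456.FibDiv.ker_fiberι]
    congr 1
    rw [Models.H50.PointInter.ker_eq_vanishingIdeal]
    congr 1
    apply Closeds.ext
    rw [Closeds.coe_closure, Scheme.range_fromSpecResidueField, hq.closure_eq]
    rfl
  rw [hker] at hg
  set φ := ic ((pt hq).comap f) hFib with hφ
  have hφp : φ = pull f (ic (pt hq) hEpt) := (pull_ic f hEpt hFib).symm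
  set e := ic E hEff with he
  set w := mk WX hW with hw
  set m := mk M hM with hm
  set Ω := mk _ hΩ with hΩ'
  have hmΩ : m = pull f Ω⁻¹ := by
    obtain ⟨eM⟩ := hMi
    rw [map_inv, eq_inv_iff_mul_eq_one, hm, hΩ', pull_mk, mk_mul_mk, mk_eq_one_iff]
    exact ⟨eM⟩
  have a0 : dot k X φ φ = 0 := by rw [hφp]; exact dot_pull_pull k f hf hd hdimC hregC _ _
  have a1 : dot k X φ w = 2 * (1 - g) := by
    rw [hφ, hw, adjunction k hdim hWX hW hFib, ← hφ, a0, hg, zero_add]
  have a2 : dot k X φ m = 0 := by rw [hφp, hmΩ]; exact dot_pull_pull k f hf hd hdimC hregC _ _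
  have a3 : ∀ A : Pic C, dot k X e (pull f A) = - degC k C A := fun A => by
    rw [he, dot_ic_eq, degOn_section k f hf hE]
  have a4 : dot k X φ e = 1 := by
    rw [dot_comm, hφp, a3, degC_pt k hdimC hq hEpt, neg_neg]
  have a5 : dot k X e m = -2 * Curv2.euler k C (Coh.structureModule C) := by
    rw [hmΩ, a3, degC_inv k C hdimC, degC_omega k hdimC hΩ, neg_neg]
  have a6 : dot k X e w = dot k X e e + 2 * Curv2.euler k C (Coh.structureModule C) := by
    rw [he, hw, adjunction k hdim hWX hW hEff, euler_section k f hf hE]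
  -- Hodge index
  obtain ⟨n, hn⟩ : ∃ n : ℤ, n = 2 * g - 2 := ⟨_, rfl⟩
  have hgi : GeometricallyIrreducible (X ↘ Spec (CommRingCat.of k)) :=
    Fdesc.GeomAlgClosed.geometricallyIrreducible_of_irreducibleSpace _
  have key := dot_self_nonpos k hdim (D := w * m * e ^ n) (φ := φ) a0 (by
      rw [dot_mul_right k X hd, dot_mul_right k X hd, dot_zpow_right k X hd, a1, a2, a4, hn]
      ring) (E := E) hdimE (by
      rw [hφp, degOn_section k f hf hE, degC_pt k hdimC hq hEpt]
      norm_num)
  have b1 : dot k X (w * m * e ^ n) (w * m * e ^ n) = dot k X (w * m) (w * m) + 2 * n * dot k X e (w * m) +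
      n ^ 2 * dot k X e e := by
    rw [dot_mul_left k X hd (w * m), dot_mul_right k X hd (w * m), dot_mul_right k X hd (e ^ n),
      dot_zpow_right k X hd, dot_zpow_left k X hd, dot_zpow_right k X hd, dot_zpow_left k X hd, dot_comm k X (w * m) e]
    ring
  have b2 : dot k X e (w * m) = dot k X e e := by
    rw [dot_mul_right k X hd, a5, a6]; ring
  rw [b1, b2, hn] at key
  rw [intNum_eq_dot k X hd (Dix.IdealModCartier.isInvertible_idealMod hEff)
    (Dix.IdealModCartier.isInvertible_idealMod hEff)]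
  change _ ≤ -(4 * g * (g - 1)) * dot k X e e
  nlinarith [key]

end Fib

end K459.Arak
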