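import Groth.Agent.Surf.K459.TorsCov
import Groth.Agent.Etbc.H218.DiscreteSplit
import Groth.Agent.Divis.EffCartier
import Mathlib.AlgebraicGeometry.AlgClosed.Basic

/-!
# The graph divisor of a cover of degree `n` becomes `n`-divisible after a finite étale base change
-/

set_option autoImplicit false
universe u
open CategoryTheory CategoryTheory.Limits AlgebraicGeometry Opposite TopologicalSpace

namespace K459.GraphRoot

open Groth.Agent Groth.Agent.Grpsch Groth.Agent.Grpsch.PicGrp Groth.Agent.Fga.RigGrp Groth.Agent.Fga.JacSum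
open Groth.Agent.Picfga.SecGraph

/-- The rank of a finite étale morphism whose closed fibres have `n` points. -/
theorem finrank_eq {k : Type u} [Field k] [IsAlgClosed k] {C₀ C₁ : Scheme.{u}}
    (s : C₀ ⟶ Spec (CommRingCat.of k)) [LocallyOfFiniteType s] [CompactSpace C₀] [IsIntegral C₀]
    (π : C₁ ⟶ C₀) [IsFinite π] [Etale π] {n : ℕ}
    (hdeg : ∀ c : C₀, IsClosed ({c} : Set C₀) → Nat.card ↥(π.fiber c) = n) (y : C₀) : π.finrank y = n := by
  obtain ⟨c, -, hc⟩ := isClosed_univ.exists_closed_singleton (Set.univ_nonempty (α := C₀))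
  have hac : IsAlgClosed (C₀.residueField c) :=
    IsAlgClosed.of_ringEquiv k _ (residueFieldIsoBase s c hc).commRingCatIsoToRingEquiv.symm
  have h0 : IsFinite (π.fiberToSpecResidueField c) := inferInstance
  have h00 : Etale (π.fiberToSpecResidueField c) := inferInstance
  let z : Spec (C₀.residueField c) := (default : PrimeSpectrum (C₀.residueField c))
  have h1 : Nat.card (π.fiber c) = (π.fiberToSpecResidueField c).finrank z :=
    Etbc.H218.DiscreteSplit.card_eq_finrank (K := C₀.residueField c) (π.fiberToSpecResidueField c) z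
  have h2 : (π.fiberToSpecResidueField c).finrank z = π.finrank (C₀.fromSpecResidueField c z) :=
    Scheme.Hom.finrank_pullback_snd π (C₀.fromSpecResidueField c) z
  have h3 : π.finrank y = π.finrank (C₀.fromSpecResidueField c z) :=
    (Scheme.Hom.isLocallyConstant_finrank π).apply_eq_of_isPreconnected isPreconnected_univ trivial trivial
  rw [h3, ← h2, ← h1, hdeg c hc]

section graph

variable {S C C₀ C₁ : Scheme.{u}} {f₀ : C₀ ⟶ S} {a : C ⟶ S} {b : C₁ ⟶ S} {r : C ⟶ C₀} {π : C₁ ⟶ C₀}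
  (hr : r ≫ f₀ = a) (hπ : π ≫ f₀ = b)

/-- `C × C₁ ⟶ C₀ × C`, `(c, y) ↦ (π y, c)`. -/
noncomputable def hh : pullback a b ⟶ pullback f₀ a :=
  pullback.lift (pullback.snd a b ≫ π) (pullback.fst a b) (by
    rw [Category.assoc, hπ]; exact pullback.condition.symm)

theorem hh_fst : hh (a := a) hπ ≫ pullback.fst f₀ a = pullback.snd a b ≫ π := pullback.lift_fst _ _ _

theorem hh_snd : hh (a := a) hπ ≫ pullback.snd f₀ a = pullback.fst a b := pullback.lift_snd _ _ _

/-- the graph of `r`. -/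
noncomputable def sc : C ⟶ pullback f₀ a := pullback.lift r (𝟙 C) (by rw [hr, Category.id_comp])

theorem sc_fst : sc hr ≫ pullback.fst f₀ a = r := pullback.lift_fst _ _ _

theorem sc_snd : sc hr ≫ pullback.snd f₀ a = 𝟙 C := pullback.lift_snd _ _ _

theorem isPullback_hh (e₁ : r ≫ f₀ = 𝟙 C ≫ a) (e₂ : π ≫ f₀ = 𝟙 C₁ ≫ b)  :
    IsPullback (pullback.fst r π) (pullback.map r π a b (𝟙 C) (𝟙 C₁) f₀ e₁ e₂) (sc hr) (hh hπ) := by
  have hΓ1 : pullback.map r π a b (𝟙 C) (𝟙 C₁) f₀ e₁ e₂ ≫ pullback.fst a b = pullback.fst r π := by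
    rw [pullback.map, pullback.lift_fst, Category.comp_id]
  have hΓ2 : pullback.map r π a b (𝟙 C) (𝟙 C₁) f₀ e₁ e₂ ≫ pullback.snd a b = pullback.snd r π := by
    rw [pullback.map, pullback.lift_snd, Category.comp_id]
  have key : ∀ {Z : Scheme.{u}} (t : Z ⟶ C) (s : Z ⟶ pullback a b), t ≫ sc hr = s ≫ hh hπ →
      t ≫ r = (s ≫ pullback.snd a b) ≫ π ∧ t = s ≫ pullback.fst a b := by
    intro Z t s h
    have h1 := congrArg (fun z => z ≫ pullback.fst f₀ a) h
    have h2 := congrArg (fun z => z ≫ pullback.snd f₀ a) h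
    simp only [Category.assoc, hh_fst, sc_fst, hh_snd, sc_snd, Category.comp_id] at h1 h2
    exact ⟨by rw [h1, Category.assoc], h2⟩
  refine ⟨⟨?_⟩, ⟨PullbackCone.IsLimit.mk _
    (fun s => pullback.lift s.fst (s.snd ≫ pullback.snd a b) (key _ _ s.condition).1) ?_ ?_ ?_⟩⟩
  · apply pullback.hom_ext
    · rw [Category.assoc, Category.assoc, hh_fst, sc_fst, ← Category.assoc, hΓ2]
      exact pullback.condition
    · rw [Category.assoc, Category.assoc, hh_snd, hΓ1, sc_snd, Category.comp_id]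
  · intro s
    exact pullback.lift_fst _ _ _
  · intro s
    have h2 := (key _ _ s.condition).2
    apply pullback.hom_ext
    · rw [Category.assoc, hΓ1]
      exact (pullback.lift_fst _ _ _).trans h2
    · rw [Category.assoc, hΓ2]
      exact pullback.lift_snd _ _ _
  · intro s m hm1 hm2
    apply pullback.hom_ext
    · rw [hm1]
      exact (pullback.lift_fst _ _ _).symm
    · rw [pullback.lift_snd, ← hm2, Category.assoc, hΓ2]

variable [SmoothOfRelativeDimension 1 f₀] [IsSeparated f₀]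

theorem pull_hh_gcl [Flat π] (e₁ : r ≫ f₀ = 𝟙 C ≫ a) (e₂ : π ≫ f₀ = 𝟙 C₁ ≫ b) :
    ∃ hI : PicF.IsInvertible (ClSub.idealMod (pullback.map r π a b (𝟙 C) (𝟙 C₁) f₀ e₁ e₂).ker),
      pull (Y := PicF.XT f₀ (Over.mk a)) (hh (a := a) hπ) (gcl f₀ (T := Over.mk a) ⟨r, hr⟩) = mk _ hI := by
  have h1 : (HilbD.secGraph f₀ (Over.mk a) r hr).comap (hh (a := a) hπ : _ ⟶ PicF.XT f₀ (Over.mk a)) = (pullback.map r π a b (𝟙 C) (𝟙 C₁) f₀ e₁ e₂).ker := by
    have h2 := isPullback_hh hr hπ e₁ e₂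
    have hci : IsClosedImmersion (sc hr) := inferInstanceAs (IsClosedImmersion (sec f₀ (Over.mk a) r hr))
    exact (ker_eq_comap_of_isPullback h2).symm
  have hfl : Flat (hh (a := a) hπ) := by
    have h2 : IsPullback (hh (a := a) hπ ≫ pullback.snd f₀ a) (pullback.snd a b) a (π ≫ f₀) := by
      rw [hh_snd, hπ]
      exact IsPullback.of_hasPullback a b
    have h3 : IsPullback (hh (a := a) hπ) (pullback.snd a b) (pullback.fst f₀ a) π :=
      IsPullback.of_right h2 (hh_fst hπ) (IsPullback.of_hasPullback f₀ a).flip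
    exact MorphismProperty.of_isPullback (P := @Flat) h3.flip inferInstance
  have h3 := isEff_secGraph f₀ (T := Over.mk a) ⟨r, hr⟩
  have h4 : BlowUp.IsEffCartierIdeal ((HilbD.secGraph f₀ (Over.mk a) r hr).comap (hh (a := a) hπ : _ ⟶ PicF.XT f₀ (Over.mk a))) :=
    Divis.EffCartier.isEff_comap_flat h3 _
  have h5 := Dix.IdealModCartier.pullback_idealMod (hh (a := a) hπ : _ ⟶ PicF.XT f₀ (Over.mk a)) h3 h4
  have h6 : PicF.IsInvertible (ClSub.idealMod (pullback.map r π a b (𝟙 C) (𝟙 C₁) f₀ e₁ e₂).ker) := by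
    rw [← h1]
    exact Dix.IdealModCartier.isInvertible_idealMod h4
  refine ⟨h6, ?_⟩
  rw [gcl, pull_mk, mk_eq_iff]
  rwa [h1] at h5

include hπ in
theorem exists_root_graph [Flat π] {n : ℕ} (e₁ : r ≫ f₀ = 𝟙 C ≫ a) (e₂ : π ≫ f₀ = 𝟙 C₁ ≫ b) (σ : S ⟶ C₀)
    (hσ : σ ≫ f₀ = 𝟙 S) (e : Pic (PicF.XT f₀ (Over.mk a)))
    (he : gcl f₀ (T := Over.mk a) ⟨r, hr⟩ = e ^ n * gcl f₀ (Pt.ofSection hσ (Over.mk a)))
    (hpow : ∀ c : Pic C₀, ∃ e' : Pic C₁, e' ^ n = pull π c) :
    ∃ L : (pullback a b).Modules, PicF.IsInvertible L ∧ ClSub.IsInverseOf (CohB1.tensorPow L n)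
      (ClSub.idealMod (pullback.map r π a b (𝟙 C) (𝟙 C₁) f₀ e₁ e₂).ker) := by
  obtain ⟨hI, h1⟩ := pull_hh_gcl hr hπ e₁ e₂
  let u : Over.mk a ⟶ Over.mk (𝟙 S) := Over.homMk a (Category.comp_id _)
  have h2 : gcl f₀ (Pt.ofSection hσ (Over.mk a)) =
      pull (PicF.XTmap f₀ u) (gcl f₀ (Pt.ofSection hσ (Over.mk (𝟙 S)))) := by
    rw [pull_gcl, Pt.ofSection_comp]
  let ui : C₀ ⟶ PicF.XT f₀ (Over.mk (𝟙 S)) := pullback.lift (𝟙 C₀) f₀ (by simp)
  have h3 : (hh (a := a) hπ : _ ⟶ PicF.XT f₀ (Over.mk a)) ≫ PicF.XTmap f₀ u = pullback.snd a b ≫ π ≫ ui := by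
    apply pullback.hom_ext
    · rw [Category.assoc, Category.assoc, Category.assoc, XTmap_fst, pullback.lift_fst, Category.comp_id]
      exact hh_fst hπ
    · have h4 : PicF.XTmap f₀ u ≫ pullback.snd f₀ (Over.mk (𝟙 S)).hom = PicF.XTproj f₀ (Over.mk a) ≫ u.left :=
        XTmap_XTproj f₀ u
      rw [Category.assoc, h4, Category.assoc, Category.assoc, pullback.lift_snd, hπ]
      change hh (a := a) hπ ≫ pullback.snd f₀ a ≫ a = _
      rw [← Category.assoc, hh_snd]
      exact pullback.condition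
  obtain ⟨e', he'⟩ := hpow (pull ui (gcl f₀ (Pt.ofSection hσ (Over.mk (𝟙 S)))))
  have h4 : mk _ hI = (pull (Y := PicF.XT f₀ (Over.mk a)) (hh (a := a) hπ) e * pull (pullback.snd a b) e') ^ n := by
    rw [← h1, he, map_mul, map_pow, h2, ← pull_comp, h3, pull_comp, pull_comp, ← he', map_pow, ← mul_pow]
  obtain ⟨L, hL, h5⟩ := exists_mk ((pull (Y := PicF.XT f₀ (Over.mk a)) (hh (a := a) hπ) e *
    pull (pullback.snd a b) e')⁻¹)
  refine ⟨L, hL, ?_⟩
  have h6 : mk (CohB1.tensorPow L n) (Fdesc.LocGen.isInvertible_tensorPow hL n) * mk _ hI = 1 := by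
    rw [mk_tensorPow hL, ← h5, h4, inv_pow, inv_mul_cancel]
  rw [mk_mul_mk, mk_eq_one_iff] at h6
  exact h6

end graph

end K459.GraphRoot
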