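import Groth.Agent.Etcore.PicTors
import Groth.Agent.PicF.K885.CycConn

/-!
# Classes of exact order `n` on a curve and connected cyclic étale covers of degree `n`
-/

set_option autoImplicit false
universe u
open CategoryTheory CategoryTheory.Limits AlgebraicGeometry Opposite TopologicalSpace

namespace K459.CycCov

open Groth.Agent Groth.Agent.Grpsch.PicGrp

variable {k : Type u} [Field k] [IsAlgClosed k] (C : Scheme.{u}) [C.Over (Spec (CommRingCat.of k))]
  [IsProper (C ↘ Spec (CommRingCat.of k))] [Smooth (C ↘ Spec (CommRingCat.of k))] [IsIntegral C]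
  (hdim : topologicalKrullDim C = 1)

include hdim

/-- On a curve of positive genus there is a class of exact order `n`. -/
theorem exists_orderOf (hg : 0 < Curv2.genus k C) (n : ℕ) (hn : (n : k) ≠ 0) : ∃ x : Pic C, orderOf x = n := by
  have key : ∀ m : ℕ, (m : k) ≠ 0 → Nat.card {c : Pic C // c ^ m = 1} = m ^ (2 * Curv2.genus k C) := fun m hm =>
    Etcore.PicTors.card_torsion C (C ↘ Spec (CommRingCat.of k)) hdim rfl m hm
  have hn0 : 0 < n := Nat.pos_of_ne_zero (by rintro rfl; simp at hn)
  let H : Subgroup (Pic C) := (powMonoidHom n).ker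
  have hcard : Nat.card H = n ^ (2 * Curv2.genus k C) := key n hn
  have hfin : Finite H := Nat.finite_of_card_ne_zero (by rw [hcard]; positivity)
  obtain ⟨x, hx⟩ := Monoid.exists_orderOf_eq_exponent (G := H) Monoid.ExponentExists.of_finite
  have he : Monoid.exponent H ∣ n := Monoid.exponent_dvd_of_forall_pow_eq_one (fun y => Subtype.ext y.2)
  have hek : ((Monoid.exponent H : ℕ) : k) ≠ 0 := fun h => hn (by
    obtain ⟨d, hd⟩ := he
    rw [hd]; push_cast; rw [h, zero_mul])
  have he0 : 0 < Monoid.exponent H := Nat.pos_of_ne_zero (fun h => hek (by rw [h, Nat.cast_zero]))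
  have hle : Nat.card H ≤ Nat.card {c : Pic C // c ^ (Monoid.exponent H) = 1} := by
    have : Finite {c : Pic C // c ^ (Monoid.exponent H) = 1} := Nat.finite_of_card_ne_zero (by
      rw [key _ hek]; positivity)
    exact Nat.card_le_card_of_injective
      (fun y => (⟨y.1, congrArg Subtype.val (Monoid.pow_exponent_eq_one y)⟩ : {c : Pic C // c ^ (Monoid.exponent H) = 1}))
      (fun a b h => Subtype.ext (congrArg
        (Subtype.val : {c : Pic C // c ^ (Monoid.exponent H) = 1} → Pic C) h))
  rw [hcard, key _ hek] at hle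
  have h1 : n ≤ Monoid.exponent H := (Nat.pow_le_pow_iff_left (by omega)).1 hle
  have h2 : Monoid.exponent H = n := le_antisymm (Nat.le_of_dvd hn0 he) h1
  exact ⟨x.1, by rw [Subgroup.orderOf_coe, hx, h2]⟩

/-- A curve of positive genus has a connected finite étale cover of degree `n`, for `n` invertible. -/
theorem exists_cyclic (hg : 0 < Curv2.genus k C) (n : ℕ) (hn : (n : k) ≠ 0) :
    ∃ (C' : Scheme.{u}) (q : C' ⟶ C), IsFinite q ∧ Etale q ∧ ConnectedSpace C' ∧ ∀ y, q.finrank y = n := by
  have hn0 : 0 < n := Nat.pos_of_ne_zero (by rintro rfl; simp at hn)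
  obtain ⟨x, hx⟩ := exists_orderOf C hdim hg n hn
  obtain ⟨L, hL, rfl⟩ := exists_mk x
  obtain ⟨τ⟩ : Nonempty (CohB1.tensorPow L n ≅ Coh.structureModule C) := by
    have h1 : mk L hL ^ n = 1 := by rw [← hx]; exact pow_orderOf_eq_one _
    rw [← mk_tensorPow, mk_eq_one_iff] at h1
    exact h1
  have hmin : ∀ i : ℕ, 0 < i → i < n → IsEmpty (CohB1.tensorPow L i ≅ Coh.structureModule C) := fun i h0 h1 =>
    ⟨fun e => by
      have h2 : mk L hL ^ i = 1 := by
        rw [← mk_tensorPow, mk_eq_one_iff]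
        exact ⟨e⟩
      exact absurd (Nat.le_of_dvd h0 (orderOf_dvd_of_pow_eq_one h2)) (by omega)⟩
  have hfield : IsField (Γ(C, ⊤) : Type u) := isField_of_universallyClosed k (C ↘ Spec (CommRingCat.of k))
  have hunit : IsUnit ((n : ℕ) : Γ(C, ⊤)) := by
    let φ : k →+* Γ(C, ⊤) := ((Scheme.ΓSpecIso (CommRingCat.of k)).inv ≫ (C ↘ Spec (CommRingCat.of k)).appTop).hom
    have h1 : ((n : ℕ) : Γ(C, ⊤)) = φ (n : k) := by rw [map_natCast]
    rw [h1]
    exact (IsUnit.mk0 _ hn).map φ
  obtain ⟨G, g, F, haff, hfl, het, H⟩ := K885.Cyc.exists_cyc τ hL hn0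
  exact ⟨G, g, hfl.1.1, het hunit, K885.CycConn.connectedSpace τ hfield hL hn0 hmin g hfl F H, hfl.2⟩

end K459.CycCov
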