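import Groth.Agent.Surf.K459.Root
import Groth.Agent.Surf.K459.CycCov
import Groth.Agent.Vanish.K660.ConnComp
import Groth.Agent.Grpsch.AbBC
import Groth.Agent.Desc.LQF
import Groth.Agent.S0383
import Mathlib.AlgebraicGeometry.ZariskisMainTheorem

/-!
# The class of the graph of an étale cover `r : C ⟶ C₀` becomes an `n`-th power up to a constant section
-/

set_option autoImplicit false
universe u
open CategoryTheory CategoryTheory.Limits AlgebraicGeometry Opposite TopologicalSpace MonoidalCategory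
  CartesianMonoidalCategory MonObj

namespace K459.TorsCov

open Groth.Agent Groth.Agent.Grpsch Groth.Agent.Grpsch.PicGrp Groth.Agent.Fga.RigGrp Groth.Agent.Fga.JacSum
open Groth.Agent.Fga.JacAlg Groth.Agent.Picfga.ChiDef Groth.Agent.Fga.JacSurj Groth.Agent.Sga7.H732.Hedge
open Groth.Agent.Sga7.H732.Abel
open K914.Curve K914.Cls K914.Points K914.HField

variable {k : Type u} [Field k] [IsAlgClosed k]

/-- A nonempty finite étale `k`-scheme over a smooth proper curve has a connected component which is a curve. -/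
theorem exists_component {C' D : Scheme.{u}} [C'.Over (Spec (CommRingCat.of k))]
    (hC' : Curve.IsSmoothProperCurve k C' (C' ↘ Spec (CommRingCat.of k))) (p : D ⟶ C') [IsFinite p] [Etale p]
    [Nonempty D] : ∃ (C : Scheme.{u}) (i : C ⟶ D), IsFinite (i ≫ p) ∧ Etale (i ≫ p) ∧
      Curve.IsSmoothProperCurve k C (i ≫ p ≫ (C' ↘ Spec (CommRingCat.of k))) := by
  obtain ⟨hp, hs, hi, hdim⟩ := hC'
  obtain ⟨t⟩ := ‹Nonempty D›
  obtain ⟨W, -, hW, -, hint⟩ := K660.ConnComp.exists_component (p ≫ (C' ↘ Spec (CommRingCat.of k))) t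
  have h1 : IsClosedImmersion W.ι := K660.ConnComp.isClosedImmersion_ι W hW
  have h2 : SmoothOfRelativeDimension 1 (C' ↘ Spec (CommRingCat.of k)) :=
    Picfga.CurveRelDim.smoothOfRelativeDimension_of_topologicalKrullDim_eq k C' _ 1 hdim
  have h3 : Etale (W.ι ≫ p) := inferInstance
  have h4 : SmoothOfRelativeDimension (0 + 1) ((W.ι ≫ p) ≫ (C' ↘ Spec (CommRingCat.of k))) := inferInstance
  have h5 : SmoothOfRelativeDimension 1 (W.ι ≫ p ≫ (C' ↘ Spec (CommRingCat.of k))) := by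
    rw [← Category.assoc]; exact h4
  refine ⟨W, W.ι, inferInstance, h3, inferInstance, inferInstance, hint, ?_⟩
  exact curve_dim (W.ι ≫ p ≫ (C' ↘ Spec (CommRingCat.of k)))

section pw

variable (J : Over (Spec (CommRingCat.of k))) [GrpObj J] [IsProper J.hom] [GeometricallyIntegral J.hom]

theorem isProper_pow (n : ℕ) : IsProper ((𝟙 J : J ⟶ J) ^ n).left := by
  have h1 : ((𝟙 J : J ⟶ J) ^ n).left ≫ J.hom = J.hom := Over.w _
  have h2 : IsProper (((𝟙 J : J ⟶ J) ^ n).left ≫ J.hom) := by rw [h1]; infer_instance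
  exact MorphismProperty.of_postcomp (W := @IsProper) (W' := @IsSeparated) _ J.hom inferInstance h2

theorem etale_pow {n : ℕ} (hn : (n : k) ≠ 0) : Etale ((𝟙 J : J ⟶ J) ^ n).left := by
  have h := Grpsch.AbBC.etale_zpow J (d := (n : ℤ)) (by exact_mod_cast hn)
  rwa [zpow_natCast] at h

theorem isFinite_pow {n : ℕ} (hn : (n : k) ≠ 0) : IsFinite ((𝟙 J : J ⟶ J) ^ n).left := by
  have := isProper_pow J n
  have := etale_pow J hn
  have hlqf : LocallyQuasiFinite ((𝟙 J : J ⟶ J) ^ n).left := Groth.Agent.Desc.LQF.of_etale _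
  exact IsFinite.of_isProper_of_locallyQuasiFinite _

end pw

variable {C₀ : Scheme.{u}} [C₀.Over (Spec (CommRingCat.of k))]

/-- the point of `C₀` with values in `C` given by `r`. -/
def zr {C : Scheme.{u}} [C.Over (Spec (CommRingCat.of k))] (r : C ⟶ C₀)
    (hr : r ≫ (C₀ ↘ Spec (CommRingCat.of k)) = C ↘ Spec (CommRingCat.of k)) :
    Pt (C₀ ↘ Spec (CommRingCat.of k)) (Over.mk (C ↘ Spec (CommRingCat.of k))) := ⟨r, hr⟩

theorem main (hC₀ : Curve.IsSmoothProperCurve k C₀ (C₀ ↘ Spec (CommRingCat.of k)))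
    [SmoothOfRelativeDimension 1 (C₀ ↘ Spec (CommRingCat.of k))] [IsSeparated (C₀ ↘ Spec (CommRingCat.of k))]
    (hg : 0 < Curv2.genus k C₀) {n : ℕ} (hn : (n : k) ≠ 0)
    (σ : Spec (CommRingCat.of k) ⟶ C₀) (hσ : σ ≫ (C₀ ↘ Spec (CommRingCat.of k)) = 𝟙 _) :
    ∃ (C : Scheme.{u}) (_ : C.Over (Spec (CommRingCat.of k))) (r : C ⟶ C₀)
      (hr : r ≫ (C₀ ↘ Spec (CommRingCat.of k)) = C ↘ Spec (CommRingCat.of k)),
      Curve.IsSmoothProperCurve k C (C ↘ Spec (CommRingCat.of k)) ∧ IsFinite r ∧ Etale r ∧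
      ∃ e : Pic (PicF.XT (C₀ ↘ Spec (CommRingCat.of k)) (Over.mk (C ↘ Spec (CommRingCat.of k)))),
        gcl (C₀ ↘ Spec (CommRingCat.of k)) (zr r hr) = e ^ n *
          gcl (C₀ ↘ Spec (CommRingCat.of k)) (Pt.ofSection hσ (Over.mk (C ↘ Spec (CommRingCat.of k)))) := by
  have hn0 : 0 < n := Nat.pos_of_ne_zero (by rintro rfl; simp at hn)
  obtain ⟨hp, hs, hi, hdim⟩ := id hC₀
  have h00 : GeometricallyConnected (C₀ ↘ Spec (CommRingCat.of k)) :=
    Fdesc.GeomAlgClosed.geometricallyConnected_of_connectedSpace _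
  set f₀ := C₀ ↘ Spec (CommRingCat.of k) with hf₀
  obtain ⟨J, _, ξ, hJp, hJg, h⟩ := K914.Fine.exists_isJac f₀ σ hσ
  obtain ⟨α, hα⟩ := exists_abel h hC₀
  -- the cyclic cover
  obtain ⟨C', q, hqf, hqe, hqc, hqd⟩ := CycCov.exists_cyclic C₀ hdim hg n hn
  letI : C'.Over (Spec (CommRingCat.of k)) := ⟨q ≫ f₀⟩
  have hCq : q ≫ (C₀ ↘ Spec (CommRingCat.of k)) = C' ↘ Spec (CommRingCat.of k) := rfl
  have hC' : Curve.IsSmoothProperCurve k C' (C' ↘ Spec (CommRingCat.of k)) := by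
    have h4 : SmoothOfRelativeDimension (0 + 1) (q ≫ f₀) := inferInstance
    have h5 : SmoothOfRelativeDimension 1 (q ≫ f₀) := h4
    have h6 : Smooth (q ≫ f₀) := inferInstance
    have h7 : IsIntegral C' := isIntegral_of_smooth (q ≫ f₀)
    exact ⟨inferInstanceAs (IsProper (q ≫ f₀)), h6, h7, curve_dim (q ≫ f₀)⟩
  -- the pullback of `[n]`
  have hpe := etale_pow J hn
  have hpf := isFinite_pow J hn
  have hps : Surjective ((𝟙 J : J ⟶ J) ^ n).left := S0383.result k J n hn0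
  let D := pullback (q ≫ α.left) ((𝟙 J : J ⟶ J) ^ n).left
  let p : D ⟶ C' := pullback.fst _ _
  have hpD : IsFinite p := inferInstance
  have hpD' : Etale p := inferInstance
  have hDs : Surjective p := inferInstance
  have hDne : Nonempty D := by
    obtain ⟨x⟩ : Nonempty C' := inferInstance
    obtain ⟨y, -⟩ := p.surjective x
    exact ⟨y⟩
  obtain ⟨C, i, hif, hie, hC⟩ := exists_component hC' p
  letI : C.Over (Spec (CommRingCat.of k)) := ⟨i ≫ p ≫ (C' ↘ Spec (CommRingCat.of k))⟩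
  let r : C ⟶ C₀ := (i ≫ p) ≫ q
  have hr : r ≫ (C₀ ↘ Spec (CommRingCat.of k)) = C ↘ Spec (CommRingCat.of k) := by
    change ((i ≫ p) ≫ q) ≫ f₀ = i ≫ p ≫ q ≫ f₀
    simp only [Category.assoc]
  refine ⟨C, inferInstance, r, hr, hC, inferInstance, inferInstance, ?_⟩
  -- the point `β`
  let T : Over (Spec (CommRingCat.of k)) := Over.mk (C ↘ Spec (CommRingCat.of k))
  have hcond : (i ≫ p) ≫ q ≫ α.left = (i ≫ pullback.snd _ _) ≫ ((𝟙 J : J ⟶ J) ^ n).left := by
    rw [Category.assoc, Category.assoc]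
    congr 1
    exact pullback.condition
  have hβ : (i ≫ pullback.snd (q ≫ α.left) ((𝟙 J : J ⟶ J) ^ n).left) ≫ J.hom = T.hom := by
    have h1 : ((𝟙 J : J ⟶ J) ^ n).left ≫ J.hom = J.hom := Over.w _
    have h2 : α.left ≫ J.hom = f₀ := Over.w α
    have h3 : ((i ≫ pullback.snd (q ≫ α.left) ((𝟙 J : J ⟶ J) ^ n).left) ≫ ((𝟙 J : J ⟶ J) ^ n).left) ≫ J.hom =
        T.hom := by
      rw [← hcond]
      simp only [Category.assoc]
      rw [h2]
      rfl
    rw [Category.assoc, h1] at h3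
    exact h3
  let β : T ⟶ J := Over.homMk (i ≫ pullback.snd _ _) hβ
  have hβα : β ^ n = ptHom (zr r hr) ≫ α := by
    have h1 : β ^ n = β ≫ (𝟙 J : J ⟶ J) ^ n := by
      rw [MonObj.comp_pow, Category.comp_id]
    rw [h1]
    apply Over.OverMorphism.ext
    change (i ≫ pullback.snd _ _) ≫ ((𝟙 J : J ⟶ J) ^ n).left = ((i ≫ p) ≫ q) ≫ α.left
    rw [← hcond]
    simp only [Category.assoc]
  have hacl : acl f₀ σ hσ (zr r hr) = cls h T β ^ n := by
    rw [← map_pow, hβα, hα]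
  -- the class from the base
  set a : Pic (PicF.XT f₀ T) := (gcl f₀ (zr r hr))⁻¹ * gcl f₀ (Pt.ofSection hσ T) with ha
  have hm : ∃ b : Pic C, b ^ n = pull (PicF.secT f₀ σ hσ T) a := by
    have h1 : pull (PicF.secT f₀ σ hσ T) (gcl f₀ (zr r hr)) =
        pull (i ≫ p) (pull q (pull (PicF.secT f₀ σ hσ (Over.mk f₀)) (gcl f₀ (idPt (f := f₀))))) := by
      have h2 : gcl f₀ (zr r hr) = pull (PicF.XTmap f₀ (ptHom (zr r hr))) (gcl f₀ (idPt (f := f₀))) := by
        rw [pull_gcl, idPt_comp]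
      rw [h2, ← pull_comp, secT_XTmap, pull_comp, ← pull_comp (i ≫ p) q]
      rfl
    have h2 : pull (PicF.secT f₀ σ hσ T) (gcl f₀ (Pt.ofSection hσ T)) = 1 := by
      let u : T ⟶ Over.mk (𝟙 (Spec (CommRingCat.of k))) := Over.homMk T.hom (Category.comp_id _)
      have h3 : gcl f₀ (Pt.ofSection hσ T) = pull (PicF.XTmap f₀ u) (gcl f₀ (Pt.ofSection hσ (Over.mk (𝟙 _)))) := by
        rw [pull_gcl, Pt.ofSection_comp]
      rw [h3, ← pull_comp, secT_XTmap, pull_comp]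
      have h4 : pull (PicF.secT f₀ σ hσ (Over.mk (𝟙 (Spec (CommRingCat.of k)))))
          (gcl f₀ (Pt.ofSection hσ (Over.mk (𝟙 _)))) = 1 := pic_spec_local k _
      rw [h4, map_one]
    obtain ⟨e, he⟩ := Root.exists_root_pull hC' hC₀ q rfl hn0 hqd
      (pull (PicF.secT f₀ σ hσ (Over.mk f₀)) (gcl f₀ (idPt (f := f₀))))
    refine ⟨(pull (i ≫ p) e)⁻¹, ?_⟩
    rw [ha, map_mul, map_inv, h1, h2, _root_.mul_one, inv_pow, ← map_pow, he]
  obtain ⟨b, hb⟩ := hm
  have hfin : a = (cls h T β * pull (PicF.XTproj f₀ T) b) ^ n := by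
    rw [mul_pow, ← hacl, ← map_pow, hb, acl, norm_apply, ← ha, div_mul_cancel]
  refine ⟨(cls h T β * pull (PicF.XTproj f₀ T) b)⁻¹, ?_⟩
  have hgrp : ∀ (G : Type _) [CommGroup G] (g s : G), (g⁻¹ * s)⁻¹ * s = g := by
    intro G _ g s
    rw [_root_.mul_inv_rev, _root_.inv_inv, _root_.mul_assoc, mul_comm g s, inv_mul_cancel_left]
  change gcl f₀ (zr r hr) = ((cls h T β * pull (PicF.XTproj f₀ T) b)⁻¹) ^ n * gcl f₀ (Pt.ofSection hσ T)
  rw [inv_pow, ← hfin, ha]
  exact (hgrp _ _ _).symm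

end K459.TorsCov
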