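import Groth.Agent.Surf.K461.DualAbs
import Groth.Agent.PerfA.QCohD
import Groth.Prelude.Def_KLin
import Mathlib.Algebra.Homology.DerivedCategory.Ext.Linear

/-!
# `Ext^m(F, ω) = H^p(X, F)^*` from the duality pairing, with the frozen `k`-linear structure
-/

set_option autoImplicit false

universe u

open CategoryTheory CategoryTheory.Limits AlgebraicGeometry

attribute [local instance] HasDerivedCategory.standard

namespace K459.ExtDual

open Groth.Agent Groth.Agent.CurvesC Groth.Agent.CurvesC.RepX Groth.Agent.CurvesC.DualLin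

/-- The two linear structures on `X.Modules` agree. -/
theorem linear_eq (A : Type u) [CommRing A] (X : Scheme.{u}) [X.Over (Spec (CommRingCat.of A))] :
    KLin.linearOver A X = LinMod.linearModules A X := by
  have h : (fun M N => KLin.homModule A X M N) = (LinMod.linearModules A X).homModule := by
    funext M N
    apply Module.ext'
    intro a φ
    change Formal.smulMod A M a ≫ φ = φ ≫ Formal.smulMod A N a
    rw [Groth.Agent.FormalB.ModPow.smulMod_naturality]
  have key : ∀ (L₁ L₂ : Linear A X.Modules), L₁.homModule = L₂.homModule → L₁ = L₂ := by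
    rintro ⟨h₁, a₁, b₁⟩ ⟨h₂, a₂, b₂⟩ hh
    dsimp only at hh
    subst hh
    rfl
  exact key _ _ h

variable (k : Type u) [Field k] (X : Scheme.{u}) [X.Over (Spec (CommRingCat.of k))]

theorem nonempty_aux [L : Linear k X.Modules] (hL : L = LinMod.linearModules k X) [HasExt.{u} X.Modules]
    {W F : X.Modules} (m p n : ℕ) (h : m + p = n)
    (τ : letI := LinMod.linearModules k X; (P X ⟶ (DCoh.inD X W)⟦(n : ℤ)⟧) →ₗ[k] k)
    (hF : letI := LinMod.linearModules k X; Function.Bijective (pairing k X τ ((DCoh.inD X F)⟦(p : ℤ)⟧))) :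
    Nonempty (Abelian.Ext F W m ≃ₗ[k] Module.Dual k (Coh.HH X F p)) := by
  subst hL
  letI := LinMod.linearModules k X
  obtain ⟨E⟩ := K461.DualAbs.dual_equiv_hom k (X := X) m p n h τ hF
  exact ⟨(Abelian.Ext.homLinearEquiv (R := k) (X := F) (Y := W) (n := m)).trans
    (E.trans (HV.equiv k F p).symm.dualMap)⟩

/-- `Ext^m(F, W) = H^p(X, F)^*` for `F` quasi-coherent, `m + p = n`. -/
theorem nonempty_ext_dual [HasExt.{u} X.Modules] {W F : X.Modules} (hF : Coh.IsQCoh F) (m p n : ℕ) (h : m + p = n)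
    (hτ : letI := LinMod.linearModules k X; ∃ τ : (P X ⟶ (DCoh.inD X W)⟦(n : ℤ)⟧) →ₗ[k] k,
      ∀ K : DCoh.D X, DCoh.IsQCohD K → Function.Bijective (pairing k X τ K)) :
    Nonempty (Abelian.Ext F W m ≃ₗ[k] Module.Dual k (Coh.HH X F p)) := by
  obtain ⟨τ, hτ⟩ := hτ
  exact nonempty_aux k X (linear_eq k X) m p n h τ
    (hτ _ (PerfA.QCohD.isQCohD_shift (PerfA.QCohD.isQCohD_inD F hF) (p : ℤ)))

end K459.ExtDual
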