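import Groth.Agent.Surf.K459.DoubleDual
import Groth.Agent.Surf.K459.ExtDual
import Groth.Agent.Surf.K461.SerreLF
import Groth.Agent.Surf.K461.SerreDual
import Groth.Agent.Flat2E.FormalGen418
import Groth.Agent.Grpsch.PicGrp

/-!
# Duality on smooth projective surfaces
-/

set_option autoImplicit false
universe u
open CategoryTheory CategoryTheory.Limits AlgebraicGeometry TopologicalSpace Opposite
open Groth.Agent Groth.Agent.CohqB Groth.Agent.CohqB.HomSheaf Groth.Agent.Sga2.PnHomAdj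
open Groth.Agent.VarietyA.EulerLES

namespace K459.SurfSD

open K459.DualNum

variable {k : Type u} [Field k]

theorem sd (S : Scheme.{u}) [S.Over (Spec (CommRingCat.of k))] [IsIntegral S]
    [Smooth (S ↘ Spec (CommRingCat.of k))] (hdim : topologicalKrullDim S = 2)
    [IsProper (S ↘ Spec (CommRingCat.of k))] {ω : S.Modules}
    (hω : Canon.IsTopDiff (S ↘ Spec (CommRingCat.of k)) 2 ω) : SD k ω := by
  have h1 : SmoothOfRelativeDimension 2 (S ↘ Spec (CommRingCat.of k)) :=
    Picfga.CurveRelDim.smoothOfRelativeDimension_of_topologicalKrullDim_eq k S _ 2 hdim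
  refine ⟨fun F hF m p h => ?_, fun L L' e hL m p h => ?_⟩
  · rw [K461.SerreLF.finrank_eq k 2 hω hF m p h]
    exact (equivA k ((sheafHomIso F).app ω) m).finrank_eq
  · exact K461.SerreDual.finrank_eq k 2 hω e hL m p h

theorem exists_ample {S : Scheme.{u}} {f : S ⟶ Spec (CommRingCat.of k)}
    (hproj : ∃ (n : ℕ) (ι : S ⟶ CohB1.ProjSpace n k), IsClosedImmersion ι ∧
      ι ≫ CohB1.ProjSpace.toSpec n k = f) :
    ∃ L P : S.Modules, CohB1.IsAmple L ∧ PicF.IsInvertible P ∧ ClSub.IsInverseOf L P := by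
  obtain ⟨n, ι, hι, -⟩ := hproj
  obtain ⟨L, hL⟩ := Flat2E.FormalGen418.exists_isAmple k n S ι
  obtain ⟨P, hP, e⟩ := Grpsch.PicGrp.exists_inverse hL.1
  exact ⟨L, P, hL, hP, e⟩

end K459.SurfSD
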