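import Groth.Agent.CohqB.HomDual
import Groth.Agent.Krr.H463.Wedge
import Groth.Agent.Sga2.PnHomAdj
import Groth.Agent.Ega2.QCohLocal

/-!
# Biduality for finite locally free modules with respect to an invertible module
-/

set_option autoImplicit false

universe u

open CategoryTheory AlgebraicGeometry Opposite TopologicalSpace

namespace K459.Bidual

open Groth.Agent Groth.Agent.CohqB.HomSheaf Groth.Agent.CohqB.HomPost Groth.Agent.CohqB.HomDual
open Groth.Agent.Sga2.PnHomAdj

/-- Algebraic biduality with values in a module isomorphic to the ring. -/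
theorem bijective_eval {R : Type*} [CommRing R] {M W : Type*} [AddCommGroup M] [Module R M] [Module.Finite R M]
    [Module.Projective R M] [AddCommGroup W] [Module R W] (e : W ≃ₗ[R] R)
    (d : (M →ₗ[R] W) →ₗ[R] W) : ∃! m : M, ∀ g : M →ₗ[R] W, g m = d g := by
  have hb : Function.Bijective (Module.Dual.eval R M) := Module.bijective_dual_eval R M
  let d' : Module.Dual R (Module.Dual R M) :=
    { toFun := fun φ => e (d (e.symm.toLinearMap ∘ₗ φ))
      map_add' := fun φ ψ => by rw [LinearMap.comp_add, map_add, map_add]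
      map_smul' := fun r φ => by rw [LinearMap.comp_smul, map_smul, map_smul]; rfl }
  have key : ∀ m : M, (∀ g : M →ₗ[R] W, g m = d g) ↔ Module.Dual.eval R M m = d' := by
    intro m
    constructor
    · intro h
      ext φ
      change φ m = e (d (e.symm.toLinearMap ∘ₗ φ))
      rw [← h]
      simp
    · intro h g
      have h1 := LinearMap.congr_fun h (e.toLinearMap ∘ₗ g)
      change e (g m) = e (d (e.symm.toLinearMap ∘ₗ (e.toLinearMap ∘ₗ g))) at h1
      have h2 := e.injective h1
      rw [h2]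
      congr 1
      ext x
      simp
  obtain ⟨m, hm⟩ := hb.2 d'
  exact ⟨m, (key m).2 hm, fun m' hm' => hb.1 (((key m').1 hm').trans hm.symm)⟩

variable {X : Scheme.{u}} {M W : X.Modules}

theorem exists_affine_equiv (hW : PicF.IsInvertible W) (x : X) :
    ∃ V : X.Opens, x ∈ V ∧ IsAffineOpen V ∧ Nonempty (Γ(W, V) ≃ₗ[Γ(X, V)] Γ(X, V)) := by
  have hW1 := Ega2.QCohLocal.isFinLocFreeOfRank_one_iff.2 hW
  obtain ⟨V, -, e, hxV, he⟩ := Krr.H463.Wedge.exists_affine_basis hW1 (U := ⊤) (x := x) trivial
  exact ⟨V.1, hxV, V.2, ⟨(he.basis le_rfl).equivFun.trans (LinearEquiv.funUnique (Fin 1) _ _)⟩⟩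

/-- `M ≅ Hom(Hom(M, W), W)` for `M` finite locally free and `W` invertible. -/
theorem isIso_ev (hM : FlatMod.IsFinLocFree M) (hW : PicF.IsInvertible W) : IsIso (ev M W) := by
  have hMq := Ega4dA.FrameQC.isQCoh_of_isFinLocFree hM
  have hO : FlatMod.IsFinLocFree W :=
    Ega2.QCohLocal.isFinLocFree_of_rank (Ega2.QCohLocal.isFinLocFreeOfRank_one_iff.2 hW)
  have hD := isFinLocFree_homSheaf hM hO
  have hDq := Ega4dA.FrameQC.isQCoh_of_isFinLocFree hD
  have hDD := isFinLocFree_homSheaf hD hO
  have : Coh.IsQCoh M := hMq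
  have hDDq := Ega4dA.FrameQC.isQCoh_of_isFinLocFree hDD
  have : Coh.IsQCoh (homSheaf (homSheaf M W) W) := hDDq
  refine CohqB.AffIso.isIso_of_affine_cover _ fun x => ?_
  obtain ⟨V, hx, hV, ⟨e⟩⟩ := exists_affine_equiv hW x
  refine ⟨V, hx, hV, ?_⟩
  obtain ⟨h1, h2⟩ := projective_sections hM hV
  let a := affineEquiv (N := W) hMq hV
  have h3 : ∀ (m : Γ(M, V)) (s : Γ(homSheaf (homSheaf M W) W, V)),
      (ev M W).app V m = s ↔
      ∀ g : Γ(M, V) →ₗ[Γ(X, V)] Γ(W, V), g m = ((comp s V le_rfl).comp a.symm.toLinearMap) g := by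
    intro m s
    constructor
    · rintro rfl g
      change g m = comp ((ev M W).app V m) V le_rfl (a.symm g)
      rw [ev_app, comp_evFun, res_self, comp_affineEquiv_symm]
    · intro h
      refine comp_injective hDq hV fun φ => ?_
      rw [ev_app, comp_evFun, res_self]
      have h4 := h (a φ)
      change comp φ V le_rfl m = comp s V le_rfl (a.symm (a φ)) at h4
      rw [LinearEquiv.symm_apply_apply] at h4
      exact h4
  constructor
  · intro m m' hmm'
    obtain ⟨z, hz, hu⟩ := bijective_eval e ((comp ((ev M W).app V m') V le_rfl).comp a.symm.toLinearMap)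
    exact (hu m ((h3 m _).1 hmm')).trans (hu m' ((h3 m' _).1 rfl)).symm
  · intro s
    obtain ⟨z, hz, -⟩ := bijective_eval e ((comp s V le_rfl).comp a.symm.toLinearMap)
    exact ⟨z, (h3 z s).2 hz⟩

theorem ev_naturality {M M' : X.Modules} (f : M ⟶ M') (W : X.Modules) :
    f ≫ ev M' W = ev M W ≫ homMapLeft (homMapLeft f W) W := by
  refine homSheaf_hom_ext _ _ fun U m φ => ?_
  change comp ((ev M' W).app U (f.app U m)) U le_rfl φ =
    comp ((ev M W).app U m) U le_rfl ((homMapLeft f W).app U φ)
  rw [ev_app, ev_app, comp_evFun, comp_evFun, res_self, res_self]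
  rfl

end K459.Bidual
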