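import Groth.Agent.Surf.K459.SurfRes
import Groth.Agent.Fga.HodgeSec
import Groth.Agent.VarietyA.AmpleNegPow
import Groth.Agent.Ega3B.SerreTwist
import Groth.Agent.CohqA.DirectSum
import Groth.Agent.Ega2.TensPow

/-!
# `h⁰(Ext¹(F, ω)) = h¹(F)` for pure one-dimensional modules on a smooth projective surface
-/

set_option autoImplicit false
universe u
open CategoryTheory CategoryTheory.Limits AlgebraicGeometry TopologicalSpace Opposite
open Groth.Agent Groth.Agent.CohqB Groth.Agent.CohqB.HomSheaf Groth.Agent.VarietyA.EulerLES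
open Groth.Agent.Ega2 Groth.Agent.Ega2.TensPow Groth.Agent.CohqB.HomPost Groth.Agent.Sga2.PnHomAdj

namespace K459.DualNum

open K459.PdAlg K459.LocFreeKer K459.HomLES K459.ExStalk K459.Duality

/-! ### Linear algebra -/

theorem finrank_of_exact {k : Type*} [Field k] {A B C : Type*} [AddCommGroup A] [Module k A] [AddCommGroup B]
    [Module k B] [AddCommGroup C] [Module k C] [Module.Finite k B] (f : A →ₗ[k] B) (g : B →ₗ[k] C)
    (hf : Function.Injective f) (hg : Function.Surjective g) (h : Function.Exact f g) :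
    Module.finrank k B = Module.finrank k A + Module.finrank k C := by
  have h1 := LinearMap.finrank_range_add_finrank_ker g
  rw [h.linearMap_ker_eq, LinearMap.finrank_range_of_inj hf, LinearMap.range_eq_top.2 hg, finrank_top] at h1
  omega

/-- A torsion module vanishes at the generic point. -/
theorem _root_.K459.ExStalk.Tors.genericPoint_notMem {X : Scheme.{u}} [IsIntegral X] {F : X.Modules} (h : Tors F) :
    genericPoint X ∉ CohB1.support F := by
  intro hη
  obtain ⟨r, h0, hr⟩ := h (genericPoint X)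
  have hu : IsUnit (r : X.functionField) := (isUnit_iff_ne_zero (G₀ := X.functionField)).2 h0
  obtain ⟨u, hu'⟩ := hu
  apply hη
  have key : ∀ a : F.presheaf.stalk (genericPoint X), a = 0 := fun a => by
    have h1 := hr a
    have h2 : r = u.val := hu'.symm
    rw [h2] at h1
    have h3 : (↑u⁻¹ : X.presheaf.stalk (genericPoint X)) • ((u : X.presheaf.stalk (genericPoint X)) • a) = 0 := by
      rw [h1, smul_zero]
    rwa [smul_smul, Units.inv_mul, one_smul] at h3
  exact ⟨fun a b => by rw [key a, key b]⟩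

variable (k : Type u) [Field k] {S : Scheme.{u}} [S.Over (Spec (CommRingCat.of k))]

/-- Numerical Serre duality on a surface. -/
structure SD (ω : S.Modules) : Prop where
  lf : ∀ F : S.Modules, FlatMod.IsFinLocFree F → ∀ m p : ℕ, m + p = 2 →
    Module.finrank k (Coh.HH S F p) = Module.finrank k (Coh.HH S (homSheaf F ω) m)
  inv : ∀ L L' : S.Modules, Nonempty (CohB1.tensorMod L L' ≅ Coh.structureModule S) → Coh.IsQCoh L →
    ∀ m p : ℕ, m + p = 2 →
    Module.finrank k (Coh.HH S L p) = Module.finrank k (Coh.HH S (CohB1.tensorMod ω L') m)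

theorem powUnit : (n : ℕ) → Nonempty (CohB1.tensorPow (Coh.structureModule S) n ≅ Coh.structureModule S)
  | 0 => ⟨Iso.refl _⟩
  | n + 1 => ⟨Tens.mapTIso (powUnit n).some (Iso.refl _) ≪≫ Tens.lunit _⟩

theorem isInverseOf_pow {L P : S.Modules} (h : ClSub.IsInverseOf L P) (n : ℕ) :
    ClSub.IsInverseOf (CohB1.tensorPow L n) (CohB1.tensorPow P n) := by
  obtain ⟨e⟩ := h
  obtain ⟨e'⟩ := powUnit (S := S) n
  exact ⟨(powTensor L P n).symm ≪≫ powIso e n ≪≫ e'⟩

theorem isInverseOf_symm {L P : S.Modules} (h : ClSub.IsInverseOf L P) : ClSub.IsInverseOf P L := by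
  obtain ⟨e⟩ := h
  exact ⟨Tens.swap P L ≪≫ e⟩

variable [IsProper (S ↘ Spec (CommRingCat.of k))] {ω : S.Modules}

/-- `H¹(S, L^{-N}) = 0` for `L` ample and large `N`. -/
theorem exists_neg (hSD : SD k ω) (hω : Coh.IsCoh ω) {L P : S.Modules} (hL : CohB1.IsAmple L)
    (hP : PicF.IsInvertible P) (e : ClSub.IsInverseOf L P) :
    ∃ n₀ : ℕ, ∀ N, n₀ ≤ N → Subsingleton (Coh.HH S (CohB1.tensorPow P N) 1) := by
  obtain ⟨n₀, h⟩ := Ega3B.SerreTwist.exists_serre (S ↘ Spec (CommRingCat.of k)) hL hω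
  refine ⟨n₀, fun N hN => ?_⟩
  have h1 := (h N hN).1 1 one_pos
  have h2 : PicF.IsInvertible (CohB1.tensorPow P N) := Fdesc.LocGen.isInvertible_tensorPow hP N
  have h3 := hSD.inv _ _ (isInverseOf_pow (isInverseOf_symm e) N) (Fga.HodgeSec.isCoh_of_isInvertible h2).1 1 1 rfl
  rw [Module.finrank_zero_of_subsingleton (M := Coh.HH S (CohB1.tensorMod ω (CohB1.tensorPow L N)) 1)] at h3
  have := Fga.HodgeSec.finite_HH k h2 1
  exact Module.finrank_zero_iff.1 h3

/-- Two-term resolutions with `H¹(F₀) = 0`. -/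
theorem exists_res [IsIntegral S] [IsLocallyNoetherian S] (hreg : ∀ x : S, IsRegularLocalRing (S.presheaf.stalk x))
    (hdim : ∀ x : S, ringKrullDim (S.presheaf.stalk x) ≤ 2)
    (hSD : SD k ω) (hω : Coh.IsCoh ω) {L P : S.Modules} (hL : CohB1.IsAmple L)
    (hP : PicF.IsInvertible P) (e : ClSub.IsInverseOf L P)
    {F : S.Modules} (hF : Coh.IsCoh F) (h : Reg1 F) :
    ∃ (F₁ F₀ : S.Modules) (f : F₁ ⟶ F₀) (g : F₀ ⟶ F) (w : f ≫ g = 0), (ShortComplex.mk f g w).ShortExact ∧
      FlatMod.IsFinLocFree F₁ ∧ FlatMod.IsFinLocFree F₀ ∧ Subsingleton (Coh.HH S F₀ 1) := by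
  obtain ⟨n₀, hn₀⟩ := exists_neg k hSD hω hL hP e
  obtain ⟨N, hN, κ, hκ, φ, hφ⟩ := VarietyA.AmpleNegPow.exists_epi hL e.some n₀ hF.1 hF.2
  have hc : CompactSpace S := hL.2.1
  have hqs : QuasiSeparatedSpace S := quasiSeparatedSpace_of_quasiSeparated (S ↘ Spec (CommRingCat.of k))
  have hE : FlatMod.IsFinLocFree (∐ fun _ : κ => CohB1.tensorPow P N) :=
    Sga2.PnCoprod.isFinLocFree_coproduct _ fun _ => Ega2.QCohLocal.isFinLocFree_of_rank
      (Ega2.QCohLocal.isFinLocFreeOfRank_one_iff.2 (Fdesc.LocGen.isInvertible_tensorPow hP N))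
  exact ⟨kernel (Sigma.desc φ), _, kernel.ι _, Sigma.desc φ, kernel.condition _,
    { exact := ShortComplex.exact_of_f_is_kernel _ (kernelIsKernel _) },
    isFinLocFree_kernel hreg hdim _ hE hF.1 h, hE,
    CohqA.DirectSum.subsingleton_coproduct _ 1 fun _ => hn₀ N hN⟩

theorem finrank_zero_eq (T : ShortComplex S.Modules) (hT : T.ShortExact) (hc : Coh.IsCoh T.X₂)
    (h : Subsingleton (Coh.HH S T.X₁ 1)) : Module.finrank k (Coh.HH S T.X₂ 0) =
      Module.finrank k (Coh.HH S T.X₁ 0) + Module.finrank k (Coh.HH S T.X₃ 0) := by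
  have := Fga.HodgeSec.finite_HH' k hc 0
  refine finrank_of_exact (mapA k T.f 0) (mapA k T.g 0) ?_ ?_ ?_
  · exact injectiveA₀ k _ hT
  · intro y
    exact (exactA₃ k _ hT 0 1 rfl y).mp (Subsingleton.elim _ _)
  · exact exactA₂ k _ hT 0

theorem finrank_two_eq (T : ShortComplex S.Modules) (hT : T.ShortExact) (hc : Coh.IsCoh T.X₁)
    (h : Subsingleton (Coh.HH S T.X₂ 1)) (h' : Subsingleton (Coh.HH S T.X₃ 2)) :
    Module.finrank k (Coh.HH S T.X₁ 2) =
      Module.finrank k (Coh.HH S T.X₃ 1) + Module.finrank k (Coh.HH S T.X₂ 2) := by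
  have := Fga.HodgeSec.finite_HH' k hc 2
  refine finrank_of_exact (deltaA k _ hT 1 2 rfl) (mapA k T.f 2) ?_ ?_ ?_
  · rw [injective_iff_map_eq_zero]
    intro y hy
    obtain ⟨z, rfl⟩ := (exactA₃ k _ hT 1 2 rfl y).mp hy
    rw [Subsingleton.elim z 0, map_zero]
  · intro y
    exact (exactA₂ k _ hT 2 y).mp (Subsingleton.elim _ _)
  · exact exactA₁ k _ hT 1 2 rfl

variable [HasInjectiveResolutions S.Modules]

theorem finrank_zero_Ex [IsIntegral S] [IsLocallyNoetherian S]
    (hreg : ∀ x : S, IsRegularLocalRing (S.presheaf.stalk x))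
    (hdim : ∀ x : S, ringKrullDim (S.presheaf.stalk x) ≤ 2) (hdimS : topologicalKrullDim S ≤ (2 : ℕ))
    (hSD : SD k ω) (hω : PicF.IsInvertible ω) {L P : S.Modules} (hL : CohB1.IsAmple L)
    (hP : PicF.IsInvertible P) (e : ClSub.IsInverseOf L P)
    {F : S.Modules} (hF : Pure F) :
    Module.finrank k (Coh.HH S (Ex 1 F ω) 0) = Module.finrank k (Coh.HH S F 1) := by
  have hωf : FlatMod.IsFinLocFree ω :=
    Ega2.QCohLocal.isFinLocFree_of_rank (Ega2.QCohLocal.isFinLocFreeOfRank_one_iff.2 hω)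
  have hωc : Coh.IsCoh ω := Fga.HodgeSec.isCoh_of_isInvertible hω
  obtain ⟨F₁, F₀, f, g, w, hS, h₁, h₀, hH⟩ := exists_res k hreg hdim hSD hωc hL hP e hF.coh hF.reg
  have hT := shortExact_dual hS h₁ h₀ hωf hF.coh hF.tors
  have hc1 := PerfA.CohSerre.isCoh_of_isFinLocFree h₁
  have hc0 := PerfA.CohSerre.isCoh_of_isFinLocFree h₀
  have hG0 := PerfA.CohSerre.isCoh_of_isFinLocFree (isFinLocFree_homSheaf h₀ hωf)
  have hG1 := PerfA.CohSerre.isCoh_of_isFinLocFree (isFinLocFree_homSheaf h₁ hωf)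
  -- `H¹(Hom(F₀, ω)) = 0`
  have a1 : Subsingleton (Coh.HH S (homSheaf F₀ ω) 1) := by
    have h3 := hSD.lf F₀ h₀ 1 1 rfl
    rw [Module.finrank_zero_of_subsingleton (M := Coh.HH S F₀ 1)] at h3
    have := Fga.HodgeSec.finite_HH' k hG0 1
    exact Module.finrank_zero_iff.1 h3.symm
  -- `H²(F) = 0`
  have a2 : Subsingleton (Coh.HH S F 2) := by
    exact Fga.HodgeSec.subsingleton_HH_two k hdimS hF.coh hF.tors.genericPoint_notMem
  have b1 := finrank_zero_eq k _ hT hG1 a1
  have b2 := finrank_two_eq k _ hS hc1 hH a2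
  have c1 := hSD.lf F₁ h₁ 0 2 rfl
  have c0 := hSD.lf F₀ h₀ 0 2 rfl
  rw [c1, c0] at b2
  dsimp only at b1 b2
  omega

end K459.DualNum
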