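import Groth.Agent.Surf.K459.ExStalk
import Groth.Agent.Surf.K459.Bidual
import Groth.Prelude.Def_KRR

/-!
# Duality `F ↦ Ext¹(F, ω)` for pure one-dimensional modules on a regular surface
-/

set_option autoImplicit false
universe u

open CategoryTheory CategoryTheory.Limits AlgebraicGeometry Opposite TopologicalSpace
open Groth.Agent Groth.Agent.CohqB Groth.Agent.CohqB.HomSheaf Groth.Agent.Sga2.PnHomAdj Groth.Agent.Sga2.PnHomExact
open Groth.Agent.CohqB.HomPost
open Groth.Agent.Dcoh.StalkMod Groth.Agent.CycB.StalkExact Groth.Agent.Divis.StalkMod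
open K459.HomLES K459.ExStalk K459.LocFreeKer

namespace K459.Duality

variable {X : Scheme.{u}}

/-- Coherent torsion modules without finite length submodules at the closed points of a surface. -/
structure Pure (F : X.Modules) : Prop where
  coh : Coh.IsCoh F
  tors : Tors F
  reg : Reg1 F

theorem Pure.of_mono [IsLocallyNoetherian X] {F G : X.Modules} (f : F ⟶ G) [Mono f] (hF : Coh.IsQCoh F)
    (h : Pure G) : Pure F :=
  ⟨CycB.CohProp.isCoh_of_mono f hF h.coh, h.tors.of_mono f, h.reg.of_mono f⟩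

theorem Pure.of_iso [IsLocallyNoetherian X] {F G : X.Modules} (e : F ≅ G) (h : Pure G) : Pure F :=
  h.of_mono e.hom ((SheafOfModules.isQuasicoherent X.ringCatSheaf).prop_of_iso e.symm h.coh.1)

/-- Two-term resolutions. -/
theorem exists_res [IsLocallyNoetherian X] (hreg : ∀ x : X, IsRegularLocalRing (X.presheaf.stalk x))
    (hdim : ∀ x : X, ringKrullDim (X.presheaf.stalk x) ≤ 2) (hres : KRR.HasEnoughLocFree X)
    {F : X.Modules} (hF : Coh.IsCoh F) (h : Reg1 F) :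
    ∃ (F₁ F₀ : X.Modules) (f : F₁ ⟶ F₀) (g : F₀ ⟶ F) (w : f ≫ g = 0), (ShortComplex.mk f g w).ShortExact ∧
      FlatMod.IsFinLocFree F₁ ∧ FlatMod.IsFinLocFree F₀ := by
  obtain ⟨E, p, hE, hp⟩ := hres F hF
  exact ⟨kernel p, E, kernel.ι p, p, kernel.condition p,
    { exact := ShortComplex.exact_of_f_is_kernel _ (kernelIsKernel _) },
    isFinLocFree_kernel hreg hdim p hE hF.1 h, hE⟩

variable [HasInjectiveResolutions X.Modules]

section Res

variable {F₁ F₀ F : X.Modules} {f : F₁ ⟶ F₀} {g : F₀ ⟶ F} {w : f ≫ g = 0}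
  (hS : (ShortComplex.mk f g w).ShortExact) (h₁ : FlatMod.IsFinLocFree F₁) (h₀ : FlatMod.IsFinLocFree F₀)

/-- The augmentation of the dual resolution. -/
noncomputable def aug (ω : X.Modules) : homSheaf F₁ ω ⟶ Ex 1 F ω :=
  conn₀ hS (Ega4dA.FrameQC.isQCoh_of_isFinLocFree h₁) (Ega4dA.FrameQC.isQCoh_of_isFinLocFree h₀) ω

theorem comp_aug (ω : X.Modules) : homMapLeft f ω ≫ aug hS h₁ h₀ ω = 0 :=
  comp_conn₀ hS (Ega4dA.FrameQC.isQCoh_of_isFinLocFree h₁) (Ega4dA.FrameQC.isQCoh_of_isFinLocFree h₀) ω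

/-- The dual resolution. -/
theorem shortExact_dual [IsIntegral X] [IsLocallyNoetherian X] {ω : X.Modules} (hω : FlatMod.IsFinLocFree ω)
    (hF : Coh.IsCoh F) (ht : Tors F) :
    (ShortComplex.mk (homMapLeft f ω) (aug hS h₁ h₀ ω) (comp_aug hS h₁ h₀ ω)).ShortExact := by
  have hq1 := Ega4dA.FrameQC.isQCoh_of_isFinLocFree h₁
  have hq0 := Ega4dA.FrameQC.isQCoh_of_isFinLocFree h₀
  have h1 : Mono (homMapLeft f ω) := by
    have h2 := exact_homSC hS hq1 hq0 ω
    exact h2.mono_g ((isZero_homSheaf hF ht hω).eq_of_src _ _)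
  have h3 : Epi (aug hS h₁ h₀ ω) := epi_conn₀ hS hq1 hq0 ω (isZero_Ex_succ_of_isFinLocFree h₀ ω 0)
  exact { exact := exact_conn₀ hS hq1 hq0 ω }

include hS h₁ h₀ in
theorem nonempty_bidual [IsIntegral X] [IsLocallyNoetherian X] {ω : X.Modules} (hω : PicF.IsInvertible ω)
    (hF : Coh.IsCoh F) (ht : Tors F) : Nonempty (Ex 1 (Ex 1 F ω) ω ≅ F) := by
  have hωf : FlatMod.IsFinLocFree ω :=
    Ega2.QCohLocal.isFinLocFree_of_rank (Ega2.QCohLocal.isFinLocFreeOfRank_one_iff.2 hω)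
  have hT := shortExact_dual hS h₁ h₀ hωf hF ht
  have hG1 := isFinLocFree_homSheaf h₀ hωf
  have hG0 := isFinLocFree_homSheaf h₁ hωf
  obtain ⟨e1⟩ := nonempty_iso_cokernel hT (Ega4dA.FrameQC.isQCoh_of_isFinLocFree hG1)
    (Ega4dA.FrameQC.isQCoh_of_isFinLocFree hG0) ω (isZero_Ex_succ_of_isFinLocFree hG0 ω 0)
  have i1 := Bidual.isIso_ev h₁ hω
  have i0 := Bidual.isIso_ev h₀ hω
  have e2 : cokernel f ≅ cokernel (homMapLeft (homMapLeft f ω) ω) :=
    cokernel.mapIso _ _ (asIso (HomDual.ev F₁ ω)) (asIso (HomDual.ev F₀ ω)) (Bidual.ev_naturality f ω)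
  have e3 : F ≅ cokernel f := IsColimit.coconePointUniqueUpToIso hS.gIsCokernel (colimit.isColimit _)
  exact ⟨e1 ≪≫ e2.symm ≪≫ e3.symm⟩

end Res

variable [IsIntegral X] [IsLocallyNoetherian X] (hreg : ∀ x : X, IsRegularLocalRing (X.presheaf.stalk x))
    (hdim : ∀ x : X, ringKrullDim (X.presheaf.stalk x) ≤ 2) (hres : KRR.HasEnoughLocFree X)

include hreg hdim hres

/-- The dual of a pure module is pure. -/
theorem Pure.dual {F : X.Modules} (h : Pure F) {ω : X.Modules} (hω : PicF.IsInvertible ω) : Pure (Ex 1 F ω) := by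
  have hωf : FlatMod.IsFinLocFree ω :=
    Ega2.QCohLocal.isFinLocFree_of_rank (Ega2.QCohLocal.isFinLocFreeOfRank_one_iff.2 hω)
  obtain ⟨F₁, F₀, f, g, w, hS, h₁, h₀⟩ := exists_res hreg hdim hres h.coh h.reg
  have hT := shortExact_dual hS h₁ h₀ hωf h.coh h.tors
  have hG1 := isFinLocFree_homSheaf h₀ hωf
  have hG0 := isFinLocFree_homSheaf h₁ hωf
  have hepi := hT.epi_g
  refine ⟨?_, h.tors.Ex h.coh 1 ω, reg1_of_shortExact hreg _ hT hG1 hG0⟩
  have hc := PerfA.CohSerre.isCoh_cokernel (homMapLeft f ω) (PerfA.CohSerre.isCoh_of_isFinLocFree hG1).1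
    (PerfA.CohSerre.isCoh_of_isFinLocFree hG0)
  have e : cokernel (homMapLeft f ω) ≅ Ex 1 F ω :=
    (IsColimit.coconePointUniqueUpToIso hT.gIsCokernel (colimit.isColimit _)).symm
  exact PerfA.CohSerre.isCoh_of_iso e hc

/-- Biduality. -/
theorem Pure.nonempty_bidual {F : X.Modules} (h : Pure F) {ω : X.Modules} (hω : PicF.IsInvertible ω) :
    Nonempty (Ex 1 (Ex 1 F ω) ω ≅ F) := by
  obtain ⟨F₁, F₀, f, g, w, hS, h₁, h₀⟩ := exists_res hreg hdim hres h.coh h.reg
  exact Duality.nonempty_bidual hS h₁ h₀ hω h.coh h.tors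

end K459.Duality
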