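import Groth.Agent.Surf.K459.HomLES
import Groth.Agent.Surf.K459.LocFreeKer
import Groth.Agent.Htor.H255.StalkBij

/-!
# Annihilators of the stalks of the Ext sheaves; torsion modules
-/

set_option autoImplicit false
universe u

open CategoryTheory CategoryTheory.Limits AlgebraicGeometry Opposite TopologicalSpace
open Groth.Agent Groth.Agent.CohqB Groth.Agent.CohqB.HomSheaf Groth.Agent.Sga2.PnHomAdj Groth.Agent.Sga2.PnHomExact
open Groth.Agent.Dcoh.StalkMod Groth.Agent.CycB.StalkExact Groth.Agent.Divis.StalkMod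
open K459.HomLES

namespace K459.ExStalk

variable {X : Scheme.{u}}

/-- `r` kills the stalk of `F` at `x`. -/
def Kills {x : X} (r : X.presheaf.stalk x) (F : X.Modules) : Prop := ∀ m : F.presheaf.stalk x, r • m = 0

theorem Kills.of_mono {x : X} {r : X.presheaf.stalk x} {F G : X.Modules} (f : F ⟶ G) [Mono f] (h : Kills r G) :
    Kills r F := fun m => by
  apply stalkLin_injective f x
  rw [map_smul, h, map_zero]

theorem Kills.of_epi {x : X} {r : X.presheaf.stalk x} {F G : X.Modules} (f : F ⟶ G) [Epi f] (h : Kills r F) :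
    Kills r G := fun m => by
  obtain ⟨n, rfl⟩ := stalkLin_surjective f x m
  rw [← map_smul, h, map_zero]

theorem Kills.of_iso {x : X} {r : X.presheaf.stalk x} {F G : X.Modules} (e : F ≅ G) (h : Kills r F) :
    Kills r G := h.of_epi e.hom

theorem kills_homSheaf [IsLocallyNoetherian X] {x : X} {r : X.presheaf.stalk x} {F : X.Modules}
    (hF : Coh.IsCoh F) (h : Kills r F) (N : X.Modules) : Kills r (homSheaf F N) := by
  intro t
  obtain ⟨U, hU, hx⟩ := exists_affine x
  have := finite_sections hF hU
  apply Htor.H255.StalkBij.injective_homStalk hF.1 hU x hx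
  rw [map_smul, map_zero]
  ext m
  rw [LinearMap.smul_apply, ← map_smul, h, map_zero, LinearMap.zero_apply]

theorem kills_Ex [IsLocallyNoetherian X] [HasInjectiveResolutions X.Modules] {x : X} {r : X.presheaf.stalk x}
    {F : X.Modules} (hF : Coh.IsCoh F) (h : Kills r F) (n : ℕ) (N : X.Modules) : Kills r (Ex n F N) := by
  refine Kills.of_iso (Sga4h.FunLES.isoH (homF F) N n).symm ?_
  let K := ((homF F).mapHomologicalComplex (ComplexShape.up ℕ)).obj (injectiveResolution N).cocomplex
  have h1 : Kills r (K.X n) := kills_homSheaf hF h _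
  have h2 : Kills r (K.cycles n) := h1.of_mono (K.iCycles n)
  exact h2.of_epi (K.homologyπ n)

theorem subsingleton_stalk_iff_kills_one {x : X} (F : X.Modules) :
    Subsingleton (F.presheaf.stalk x) ↔ Kills (1 : X.presheaf.stalk x) F := by
  constructor
  · intro h m
    exact Subsingleton.elim _ _
  · intro h
    refine ⟨fun a b => ?_⟩
    rw [← one_smul (X.presheaf.stalk x) a, ← one_smul (X.presheaf.stalk x) b, h a, h b]

theorem subsingleton_stalk_Ex [IsLocallyNoetherian X] [HasInjectiveResolutions X.Modules] {x : X}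
    {F : X.Modules} (hF : Coh.IsCoh F) (h : Subsingleton (F.presheaf.stalk x)) (n : ℕ) (N : X.Modules) :
    Subsingleton ((Ex n F N).presheaf.stalk x) :=
  (subsingleton_stalk_iff_kills_one _).2 (kills_Ex hF ((subsingleton_stalk_iff_kills_one _).1 h) n N)

/-- Torsion modules (bounded torsion on every stalk). -/
def Tors (F : X.Modules) : Prop := ∀ x : X, ∃ r : X.presheaf.stalk x, r ≠ 0 ∧ Kills r F

theorem Tors.of_mono {F G : X.Modules} (f : F ⟶ G) [Mono f] (h : Tors G) : Tors F := fun x =>
  let ⟨r, h0, hr⟩ := h x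
  ⟨r, h0, hr.of_mono f⟩

theorem Tors.of_epi {F G : X.Modules} (f : F ⟶ G) [Epi f] (h : Tors F) : Tors G := fun x =>
  let ⟨r, h0, hr⟩ := h x
  ⟨r, h0, hr.of_epi f⟩

theorem Tors.Ex [IsLocallyNoetherian X] [HasInjectiveResolutions X.Modules] {F : X.Modules} (hF : Coh.IsCoh F)
    (h : Tors F) (n : ℕ) (N : X.Modules) : Tors (HomLES.Ex n F N) := fun x =>
  let ⟨r, h0, hr⟩ := h x
  ⟨r, h0, kills_Ex hF hr n N⟩

/-- There are no maps from a torsion module to a finite locally free one. -/
theorem isZero_homSheaf [IsIntegral X] [IsLocallyNoetherian X] {F N : X.Modules} (hF : Coh.IsCoh F)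
    (h : Tors F) (hN : FlatMod.IsFinLocFree N) : IsZero (homSheaf F N) := by
  refine isZero_of_subsingleton _ fun x => ?_
  obtain ⟨r, h0, hr⟩ := h x
  obtain ⟨U, hU, hx⟩ := exists_affine x
  have := finite_sections hF hU
  obtain ⟨h4, h5⟩ := finite_free_stalk (PerfA.CohSerre.isCoh_of_isFinLocFree hN).1 hN x
  have key : ∀ t : (homSheaf F N).presheaf.stalk x, t = 0 := by
    intro t
    apply Htor.H255.StalkBij.injective_homStalk hF.1 hU x hx
    rw [map_zero]
    ext m
    have h6 : r • (Htor.H255.HomStalk.homStalk F N x t) m = 0 := by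
      rw [← map_smul, hr, map_zero]
    exact (smul_eq_zero.1 h6).resolve_left h0
  exact ⟨fun a b => by rw [key a, key b]⟩

end K459.ExStalk
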