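import Groth.Agent.Sga2.PnHomExact
import Groth.Agent.PerfB.ModExact
import Groth.Agent.PerfC.ExtZero2

/-!
# `Hom(-, I)` is exact on quasi-coherent modules for `I` injective
-/

set_option autoImplicit false
universe u

open CategoryTheory CategoryTheory.Limits AlgebraicGeometry Opposite TopologicalSpace
open Groth.Agent.Ega1.QCohLoc (res resO IsLocAt IsLocOnAffines)
open Groth.Agent Groth.Agent.CohqB Groth.Agent.CohqB.HomSheaf Groth.Agent.Sga2.PnHomAdj Groth.Agent.Sga2.PnHomExact

namespace K459.HomInj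

variable {X : Scheme.{u}} {M M' N : X.Modules} {U : X.Opens}

/-- Linear maps between sections over an affine open come from morphisms of the restrictions. -/
theorem exists_restrict_hom (hM : Coh.IsQCoh M) (hU : IsAffineOpen U) (g : Γ(M, U) →ₗ[Γ(X, U)] Γ(N, U)) :
    ∃ ψ : M.restrict hU.fromSpec ⟶ N.restrict hU.fromSpec,
      ∀ m, restrictComp hU.fromSpec ψ U hU.opensRange_fromSpec.ge m = g m := by
  let j := hU.fromSpec
  have hM' : (M.restrict j).IsQuasicoherent := Fdesc.QCohStalk.restrict_isQCoh M hM j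
  have htop : j ''ᵁ ⊤ ≤ U := Fdesc.QCohStalk.fromSpec_image_le hU ⊤
  have htop' : U ≤ j ''ᵁ ⊤ := (Fdesc.QCohStalk.fromSpec_image_top hU).ge
  let g' : Γ(M.restrict j, ⊤) →+ Γ(N.restrict j, ⊤) :=
    ((N.restrictAppIso j ⊤).inv.hom.comp (res N htop)).comp (g.toAddMonoidHom.comp
      ((res M htop').comp (M.restrictAppIso j ⊤).hom.hom))
  obtain ⟨ψ, hψ⟩ := exists_hom_of_linearMap (M.restrict j) (N.restrict j) g' (by
    intro r m
    apply (ConcreteCategory.bijective_of_isIso (N.restrictAppIso j ⊤).hom).1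
    rw [Fdesc.QCohStalk.smul_restrictAppIso]
    change (N.restrictAppIso j ⊤).hom ((N.restrictAppIso j ⊤).inv (res N htop (g (res M htop'
      ((M.restrictAppIso j ⊤).hom (r • m)))))) = resO htop r • (N.restrictAppIso j ⊤).hom
        ((N.restrictAppIso j ⊤).inv (res N htop (g (res M htop' ((M.restrictAppIso j ⊤).hom m)))))
    rw [← ConcreteCategory.comp_apply, ← ConcreteCategory.comp_apply, Iso.inv_hom_id, ConcreteCategory.id_apply,
      ConcreteCategory.id_apply, Fdesc.QCohStalk.smul_restrictAppIso]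
    change res N htop (g (res M htop' (resO htop r • _))) = _
    rw [Ega1.QCohLoc.res_smul, Ega1.QCohLoc.resO_resO, Ega1.QCohLoc.resO_rfl, map_smul, Ega1.QCohLoc.res_smul])
  refine ⟨ψ, ?_⟩
  intro m
  rw [restrictComp]
  have key : ∀ (W : (Spec Γ(X, U)).Opens) (_ : W = ⊤) (h1 : j ''ᵁ W ≤ U) (h2 : U ≤ j ''ᵁ W),
      res N h2 ((N.restrictAppIso j W).hom (ψ.app W ((M.restrictAppIso j W).inv (res M h1 m)))) = g m := by
    rintro W rfl h1 h2
    rw [hψ]
    change res N h2 ((N.restrictAppIso j ⊤).hom ((N.restrictAppIso j ⊤).inv (res N htop (g (res M htop'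
      ((M.restrictAppIso j ⊤).hom ((M.restrictAppIso j ⊤).inv (res M h1 m)))))))) = g m
    rw [← ConcreteCategory.comp_apply, ← ConcreteCategory.comp_apply, Iso.inv_hom_id, ConcreteCategory.id_apply,
      Iso.inv_hom_id, ConcreteCategory.id_apply, Ega1.QCohLoc.res_res, Ega1.QCohLoc.res_res,
      Ega1.QCohLoc.res_rfl, Ega1.QCohLoc.res_rfl]
  exact key _ hU.fromSpec_preimage_self _ _

/-- Naturality of `restrictComp` in the source. -/
theorem restrictComp_comp {Y : Scheme.{u}} (j : Y ⟶ X) [IsOpenImmersion j] (f : M ⟶ M')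
    (ψ : M'.restrict j ⟶ N.restrict j) (V : X.Opens) (hV : V ≤ j.opensRange) (m : Γ(M, V)) :
    restrictComp j ψ V hV (f.app V m) =
      restrictComp j ((Scheme.Modules.restrictFunctor j).map f ≫ ψ) V hV m := by
  unfold restrictComp
  have h1 : res M' (j.image_preimage_le V) (f.app V m) = f.app _ (res M (j.image_preimage_le V) m) :=
    (congr($(f.mapPresheaf.naturality (homOfLE (j.image_preimage_le V)).op) m)).symm
  rw [h1]
  rfl

/-- `Hom(-, I)` sends monomorphisms of quasi-coherent modules to epimorphisms, for `I` injective. -/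
theorem epi_homMapLeft (f : M ⟶ M') [Mono f] (hM : Coh.IsQCoh M) (I : X.Modules)
    [Injective I] : Epi (homMapLeft f I) := by
  apply PerfB.ModExact.epi_of_locally_surjective
  intro U y x hx
  obtain ⟨V, hV, hxV, hVU⟩ := exists_affine_mem hx
  refine ⟨V, hVU, hxV, ?_⟩
  obtain ⟨ψ, hψ⟩ := exists_restrict_hom hM hV (comp y V hVU)
  have hmono : Mono ((Scheme.Modules.restrictFunctor hV.fromSpec).map f) := inferInstance
  have hinj : Injective (I.restrict hV.fromSpec) := 
    Injective.injective_of_adjoint (PerfC.ExtZero.adj hV.fromSpec) I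
  let ψ' : M'.restrict hV.fromSpec ⟶ I.restrict hV.fromSpec :=
    Injective.factorThru ψ ((Scheme.Modules.restrictFunctor hV.fromSpec).map f)
  have hψ' : (Scheme.Modules.restrictFunctor hV.fromSpec).map f ≫ ψ' = ψ := Injective.comp_factorThru _ _
  refine ⟨ofRestrict hV.fromSpec ψ' hV.opensRange_fromSpec.ge, ?_⟩
  refine comp_injective hM hV fun m => ?_
  have h1 : comp ((homMapLeft f I).app V (ofRestrict hV.fromSpec ψ' hV.opensRange_fromSpec.ge)) V le_rfl m =
    restrictComp hV.fromSpec ψ' V hV.opensRange_fromSpec.ge (f.app V m) := rfl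
  rw [h1, restrictComp_comp, hψ', hψ]
  rfl

/-- `Hom(-, I)` is exact on short exact sequences of quasi-coherent modules, for `I` injective. -/
theorem shortExact_homSC {S : ShortComplex X.Modules} (hS : S.ShortExact) (h₁ : Coh.IsQCoh S.X₁)
    (h₂ : Coh.IsQCoh S.X₂) (I : X.Modules) [Injective I] : (homSC S I).ShortExact := by
  have := hS.epi_g
  have := hS.mono_f
  have h4 : Mono (homSC S I).f := mono_homMapLeft S.g I
  have h5 : Epi (homSC S I).g := epi_homMapLeft S.f h₁ I
  exact ShortComplex.ShortExact.mk (exact_homSC hS h₁ h₂ I)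

end K459.HomInj
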