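import Groth.Agent.S0563
import Groth.Agent.CalgA.RegAB
import Groth.Agent.CalgA.DepthSmall
import Groth.Agent.Ega4A.RegCM

/-!
# Projective dimension at most one over regular local rings of dimension at most two
-/

set_option autoImplicit false
universe u
open CategoryTheory IsLocalRing

namespace K459.PdAlg

open Groth.Agent.CalgA.RegProjDim

/-- `M = 0` or some element of the maximal ideal is `M`-regular. -/
def HasReg (R : Type u) [CommRing R] [IsLocalRing R] (M : Type u) [AddCommGroup M] [Module R M] : Prop :=
  Subsingleton M ∨ ∃ a ∈ maximalIdeal R, IsSMulRegular M a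

variable {R : Type u} [CommRing R]

theorem HasReg.of_injective [IsLocalRing R] {M N : Type u} [AddCommGroup M] [Module R M] [AddCommGroup N]
    [Module R N] (f : M →ₗ[R] N) (hf : Function.Injective f) (h : HasReg R N) : HasReg R M := by
  rcases h with h | ⟨a, ha, h⟩
  · exact Or.inl hf.subsingleton
  · refine Or.inr ⟨a, ha, ?_⟩
    intro m m' hm
    apply hf
    apply h
    change a • f m = a • f m'
    rw [← map_smul, ← map_smul]
    exact congrArg f hm

/-- Over a regular local ring of dimension at most two, finite modules with a regular element (when the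
dimension is two) have projective dimension at most one. -/
theorem hasProjectiveDimensionLT_two [IsRegularLocalRing R] (hdim : ringKrullDim R ≤ 2)
    (M : Type u) [AddCommGroup M] [Module R M] [Module.Finite R M]
    (h : ringKrullDim R = 2 → HasReg R M) : HasProjectiveDimensionLT (ModuleCat.of R M) 2 := by
  obtain ⟨d, hd⟩ := Groth.Agent.CalgA.RegBasic.ringKrullDim_eq_natCast R
  have hd2 : d ≤ 2 := by
    rw [hd] at hdim
    exact_mod_cast hdim
  have h1 := Groth.Agent.S0563.result R d hd M
  rcases Nat.lt_or_ge d 2 with hlt | hge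
  · exact hasProjectiveDimensionLT_of_ge _ (d + 1) _ (by omega)
  obtain rfl : d = 2 := le_antisymm hd2 hge
  rcases subsingleton_or_nontrivial M with hM | hM
  · have : Limits.IsZero (ModuleCat.of R M) := ModuleCat.isZero_of_subsingleton _
    have := this.hasProjectiveDimensionLT_zero
    exact hasProjectiveDimensionLT_of_ge _ 0 _ (by omega)
  by_contra hcon
  have h2 := Groth.Agent.CalgA.RegAB.depth_eq M 2 ⟨h1, hcon⟩
  have h3 : 1 ≤ LocCoh.depth R M := by
    rcases h (by rw [hd]; rfl) with h0 | h0
    · exact absurd h0 (not_subsingleton M)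
    · exact Groth.Agent.CalgA.DepthSmall.one_le_depth_iff.2 h0
  have h4 : ((LocCoh.depth R R : ℕ∞) : WithBot ℕ∞) ≤ ringKrullDim R :=
    (Groth.Agent.Localalg.Depth2.depth_le_supportDim (R := R) R).trans
      (Module.supportDim_le_ringKrullDim R R)
  rw [h2, hd] at h4
  have h5 : ((2 : ℕ) : ℕ∞) + LocCoh.depth R M ≤ ((2 : ℕ) : ℕ∞) := WithBot.coe_le_coe.1 h4
  have h6 : ((2 : ℕ) : ℕ∞) + 1 ≤ ((2 : ℕ) : ℕ∞) + LocCoh.depth R M := by gcongr
  have h7 := h6.trans h5
  exact absurd h7 (by decide)

/-- Conversely, projective dimension at most one forces a regular element in dimension two. -/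
theorem hasReg_of_hasProjectiveDimensionLT_two [IsRegularLocalRing R] (hdim : ringKrullDim R = 2)
    (M : Type u) [AddCommGroup M] [Module R M] [Module.Finite R M]
    (h : HasProjectiveDimensionLT (ModuleCat.of R M) 2) : HasReg R M := by
  rcases subsingleton_or_nontrivial M with hM | hM
  · exact Or.inl hM
  refine Or.inr (Groth.Agent.CalgA.DepthSmall.one_le_depth_iff.1 ?_)
  have hR : (2 : ℕ∞) ≤ LocCoh.depth R R := by
    have h1 := (Groth.Agent.Ega4A.RegCM.isCohenMacaulayLocalRing_of_isRegularLocalRing R).supportDim_eq_depth
    rw [Module.supportDim_self_eq_ringKrullDim, hdim] at h1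
    exact WithBot.coe_le_coe.1 (h1.le : ((2 : ℕ∞) : WithBot ℕ∞) ≤ _)
  by_cases h1 : HasProjectiveDimensionLT (ModuleCat.of R M) 1
  · have h2 := Groth.Agent.CalgA.RegAB.depth_eq M 0 ⟨h1, fun hz => not_subsingleton M
      (PD.zero_iff.1 hz)⟩
    rw [Nat.cast_zero, zero_add] at h2
    rw [← h2]
    exact le_trans (by decide) hR
  · have h2 := Groth.Agent.CalgA.RegAB.depth_eq M 1 ⟨h, h1⟩
    rw [h2] at hR
    by_contra hcon
    have h3 : LocCoh.depth R M = 0 := by
      rw [not_le, Order.lt_one_iff] at hcon
      exact hcon
    rw [h3] at hR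
    exact absurd hR (by decide)

/-- The kernel of a surjection from a finite free module onto such a module is free. -/
theorem free_of_exact [IsRegularLocalRing R] (hdim : ringKrullDim R ≤ 2)
    {K F G : Type u} [AddCommGroup K] [Module R K] [AddCommGroup F] [Module R F] [Module.Finite R F]
    [Module.Free R F] [AddCommGroup G] [Module R G] (i : K →ₗ[R] F) (p : F →ₗ[R] G)
    (hi : Function.Injective i) (hip : Function.Exact i p) (hp : Function.Surjective p)
    (h : ringKrullDim R = 2 → HasReg R G) : Module.Free R K := by
  have hG : Module.Finite R G := Module.Finite.of_surjective p hp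
  have h1 : PD R G 2 := hasProjectiveDimensionLT_two hdim G h
  have h2 : PD R F 1 := PD.one_iff.2 inferInstance
  have h3 : PD R K 1 := PD.ses_X₁ i p hi hip hp h2 h1
  have : Module.Finite R K := Module.Finite.of_injective i hi
  exact (projective_iff_free_of_finite (R := R) _).1 (PD.one_iff.1 h3)

/-- Cokernels of injections of finite free modules have a regular element. -/
theorem hasReg_of_exact [IsRegularLocalRing R] (hdim : ringKrullDim R = 2)
    {K F G : Type u} [AddCommGroup K] [Module R K] [Module.Free R K] [AddCommGroup F] [Module R F]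
    [Module.Finite R F] [Module.Free R F] [AddCommGroup G] [Module R G] (i : K →ₗ[R] F)
    (p : F →ₗ[R] G) (hi : Function.Injective i) (hip : Function.Exact i p)
    (hp : Function.Surjective p) : HasReg R G := by
  have hG : Module.Finite R G := Module.Finite.of_surjective p hp
  exact hasReg_of_hasProjectiveDimensionLT_two hdim G
    (PD.ses_X₃ i p hi hip hp (PD.one_iff.2 inferInstance) (PD.one_iff.2 inferInstance |>.mono (by omega)))

end K459.PdAlg
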