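import Groth.Agent.Surf.K459.Duality
import Groth.Agent.CycB.CohStalk

/-!
# Pure modules vanishing in codimension one are zero
-/

set_option autoImplicit false
universe u
open CategoryTheory CategoryTheory.Limits AlgebraicGeometry TopologicalSpace Opposite
open Groth.Agent Groth.Agent.CycB Groth.Agent.CycB.LocQuot Groth.Agent.CycB.StalkExact Groth.Agent.Dcoh.StalkMod
  Groth.Agent.CycB.CohStalk

namespace K459.PureSupp

open K459.PdAlg K459.LocFreeKer K459.ExStalk K459.Duality

variable {X : Scheme.{u}}

/-- A generization with the same finite dimension of the local ring is trivial. -/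
theorem eq_of_specializes [IsLocallyNoetherian X] {x y : X} (h : y ⤳ x)
    (hd : ringKrullDim (X.presheaf.stalk x) ≤ ringKrullDim (X.presheaf.stalk y)) : y = x := by
  let := (X.presheaf.stalkSpecializes h).hom.toAlgebra
  have hloc := isLocalization_stalkSpecializes h
  have h1 := IsLocalization.AtPrime.ringKrullDim_eq_height (RingHom.ker (Cyc.specMap x y h)) (X.presheaf.stalk y)
  have h2 : ringKrullDim (X.presheaf.stalk x) = (IsLocalRing.maximalIdeal (X.presheaf.stalk x)).height :=
    IsLocalRing.maximalIdeal_height_eq_ringKrullDim.symm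
  have h3 : RingHom.ker (Cyc.specMap x y h) = IsLocalRing.maximalIdeal (X.presheaf.stalk x) := by
    by_contra hne
    have hlt : RingHom.ker (Cyc.specMap x y h) < IsLocalRing.maximalIdeal (X.presheaf.stalk x) :=
      lt_of_le_of_ne (IsLocalRing.le_maximalIdeal (ker_isPrime h).ne_top) hne
    have h4 := Ideal.height_strict_mono_of_isPrime hlt
    rw [h1, h2] at hd
    have h5 : (IsLocalRing.maximalIdeal (X.presheaf.stalk x)).height ≤ (RingHom.ker (Cyc.specMap x y h)).height := by
      exact_mod_cast hd
    exact absurd h4 (not_lt.2 h5)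
  have h6 : primeOf h = primeOf (specializes_refl x) := by
    apply PrimeSpectrum.ext
    rw [primeOf_asIdeal, primeOf_asIdeal, h3, ker_refl]
  exact (primeOf_inj h (specializes_refl x)).1 h6

/-- A coherent module satisfying `Reg1` which vanishes at all points of codimension at most one is zero. -/
theorem isZero_of_codim [IsLocallyNoetherian X] (hdim : ∀ x : X, ringKrullDim (X.presheaf.stalk x) ≤ 2)
    {F : X.Modules} (hF : Coh.IsCoh F) (hreg : Reg1 F)
    (h : ∀ x : X, ringKrullDim (X.presheaf.stalk x) ≤ 1 → Subsingleton (F.presheaf.stalk x)) : IsZero F := by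
  refine isZero_of_subsingleton _ fun x => ?_
  by_contra hcon
  rw [not_subsingleton_iff_nontrivial] at hcon
  have key : ∀ y : X, Nontrivial (F.presheaf.stalk y) → ringKrullDim (X.presheaf.stalk y) = 2 := by
    intro y hy
    refine le_antisymm (hdim y) ?_
    by_contra hlt
    have h1 : ringKrullDim (X.presheaf.stalk y) ≤ 1 := by
      rw [not_le] at hlt
      exact (ENat.WithBot.lt_add_one_iff (m := 1)).1 hlt
    exact not_subsingleton_iff_nontrivial.2 hy (h y h1)
  have h2 := length_stalk_lt_top F hF x fun y hy hyx => by
    apply eq_of_specializes hyx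
    rw [key y hy, key x hcon]
  have h3 := hreg x (key x hcon)
  rcases h3 with h3 | ⟨a, ha, hreg'⟩
  · exact not_subsingleton_iff_nontrivial.2 hcon h3
  · have hfl : IsFiniteLength (X.presheaf.stalk x) (F.presheaf.stalk x) :=
      Module.length_ne_top_iff.1 h2.ne
    have hart := (isFiniteLength_iff_isNoetherian_isArtinian.1 hfl).2
    have hbij := IsArtinian.bijective_of_injective_endomorphism
      (LinearMap.lsmul (X.presheaf.stalk x) (F.presheaf.stalk x) a) hreg'
    have hfin := finite_stalk F hF x
    have htop : (⊤ : Submodule (X.presheaf.stalk x) (F.presheaf.stalk x)) ≤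
        IsLocalRing.maximalIdeal (X.presheaf.stalk x) • ⊤ := by
      intro m _
      obtain ⟨n, rfl⟩ := hbij.2 m
      exact Submodule.smul_mem_smul ha trivial
    have hbot := Submodule.eq_bot_of_le_smul_of_le_jacobson_bot _ _ hfin.1 htop
      (IsLocalRing.maximalIdeal_le_jacobson _)
    exact not_subsingleton_iff_nontrivial.2 hcon ((Submodule.subsingleton_iff _).1 (subsingleton_of_bot_eq_top hbot.symm))

end K459.PureSupp
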