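import Groth.Agent.Jac.K914.Fine
import Groth.Agent.AbVar.K513.Tors2
import Groth.Agent.Curves.K335.FinFlatDeg
import Groth.Agent.Fdesc.GeomAlgClosed
import Groth.Agent.Picfga.CurveRelDim
import Groth.Agent.Picfga.RatPts

/-!
# Roots of classes on curves over an algebraically closed field
-/

set_option autoImplicit false
universe u
open CategoryTheory CategoryTheory.Limits AlgebraicGeometry Opposite TopologicalSpace MonoidalCategory
  CartesianMonoidalCategory MonObj

namespace K459.Root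

open Groth.Agent Groth.Agent.Grpsch Groth.Agent.Grpsch.PicGrp Groth.Agent.Fga.RigGrp Groth.Agent.Fga.JacSum
open Groth.Agent.Fga.JacAlg Groth.Agent.Picfga.ChiDef Groth.Agent.Fga.JacSurj Groth.Agent.Sga7.H732.Hedge
open K914.Curve K914.Cls K914.Points K914.HField

section root

variable {k : Type u} [Field k] [IsAlgClosed k] {C : Scheme.{u}} (f : C ⟶ Spec (CommRingCat.of k))
  [IsProper f] [Smooth f] [GeometricallyConnected f] [SmoothOfRelativeDimension 1 f]

theorem exists_section : ∃ σ : Spec (CommRingCat.of k) ⟶ C, σ ≫ f = 𝟙 _ := by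
  have := isIntegral f
  exact Picfga.RatPts.exists_section_of_smooth f (Classical.arbitrary C)

/-- A class of degree zero on a curve over an algebraically closed field is divisible. -/
theorem exists_root_zero {n : ℕ} (hn : 0 < n) (c : Pic (PicF.XT f (Over.mk (𝟙 (Spec (CommRingCat.of k))))))
    (hc : dK f (𝟙 _) c = 0) : ∃ a, a ^ n = c := by
  obtain ⟨σ, hσ⟩ := exists_section f
  obtain ⟨J, _, ξ, hp, hg, h⟩ := K914.Fine.exists_isJac f σ hσ
  have h1 : c ∈ Rg f σ hσ (Over.mk (𝟙 (Spec (CommRingCat.of k)))) := by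
    have h2 := norm_mem f σ hσ (Over.mk (𝟙 (Spec (CommRingCat.of k)))) c
    rwa [K532.Fine.norm_field] at h2
  have h2 : IsDeg f 0 c := by
    rw [isDeg_iff_chiK]
    rw [dK] at hc
    omega
  obtain ⟨g, hg', -⟩ := h.univ (Over.mk (𝟙 (Spec (CommRingCat.of k)))) c h1 (K914.Fine.deg_iff.2 h2)
  obtain ⟨b, hb⟩ := K513.Tors.exists_pow_eq J n hn g
  refine ⟨Sga7.H732.Abel.cls h _ b, ?_⟩
  rw [← map_pow]
  refine Eq.trans ?_ hg'
  exact congrArg (fun z => pull (PicF.XTmap f z) ξ) hb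

/-- A class of degree divisible by `n` is an `n`-th power. -/
theorem exists_root_XT {n : ℕ} (hn : 0 < n) (c : Pic (PicF.XT f (Over.mk (𝟙 (Spec (CommRingCat.of k))))))
    (hc : (n : ℤ) ∣ dK f (𝟙 _) c) : ∃ a, a ^ n = c := by
  obtain ⟨σ, hσ⟩ := exists_section f
  obtain ⟨m, hm⟩ := hc
  let z : Pt f (Over.mk (𝟙 (Spec (CommRingCat.of k)))) := ⟨σ, hσ⟩
  have h1 : ∀ e : ℕ, dK f (𝟙 _) (gcl f z ^ e) = -e := by
    intro e
    induction e with
    | zero => rw [pow_zero, dK_one]; simp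
    | succ e ih => rw [pow_succ, dK_mul, ih, dK_gcl]; push_cast; ring
  have h2 : ∀ e : ℤ, dK f (𝟙 _) (gcl f z ^ e) = -e := by
    intro e
    obtain ⟨e, rfl | rfl⟩ := e.eq_nat_or_neg
    · rw [zpow_natCast, h1]
    · rw [zpow_neg, zpow_natCast, dK_inv, h1]
  obtain ⟨a, ha⟩ := exists_root_zero f hn (c * gcl f z ^ (n * m)) (by rw [dK_mul, h2, hm]; ring)
  refine ⟨a * (gcl f z ^ m)⁻¹, ?_⟩
  rw [mul_pow, ha, inv_pow, ← zpow_natCast, ← zpow_mul, mul_comm (m : ℤ), mul_inv_cancel_right]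

end root

section root'

variable {k : Type u} [Field k] [IsAlgClosed k]

/-- A class of degree divisible by `n` is an `n`-th power. -/
theorem exists_root {C : Scheme.{u}} [C.Over (Spec (CommRingCat.of k))]
    (hC : Curve.IsSmoothProperCurve k C (C ↘ Spec (CommRingCat.of k))) {n : ℕ} (hn : 0 < n) (c : Pic C)
    (hc : (n : ℤ) ∣ K532.CurvePic.deg k C c) : ∃ a : Pic C, a ^ n = c := by
  obtain ⟨hp, hs, hi, hd⟩ := hC
  have h00 : GeometricallyConnected (C ↘ Spec (CommRingCat.of k)) :=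
    Fdesc.GeomAlgClosed.geometricallyConnected_of_connectedSpace _
  have h01 : SmoothOfRelativeDimension 1 (C ↘ Spec (CommRingCat.of k)) :=
    Picfga.CurveRelDim.smoothOfRelativeDimension_of_topologicalKrullDim_eq k C _ 1 hd
  have h1 : pull (K532.UnitBase.ui (C ↘ Spec (CommRingCat.of k)))
      (pull (pullback.fst (C ↘ Spec (CommRingCat.of k)) (𝟙_ (Over (Spec (CommRingCat.of k)))).hom) c) = c := by
    rw [← pull_comp, K532.UnitBase.ui_fst, pull_id]
  have h2 := K532.UnitBase.dg_ui (pull (pullback.fst (C ↘ Spec (CommRingCat.of k)) (𝟙_ (Over (Spec (CommRingCat.of k)))).hom) c)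
  rw [h1] at h2
  have h3 := K914.HField.deg_eq_dK (C ↘ Spec (CommRingCat.of k)) (𝟙 _)
    (pull (pullback.fst (C ↘ Spec (CommRingCat.of k)) (𝟙_ (Over (Spec (CommRingCat.of k)))).hom) c)
  obtain ⟨a, ha⟩ := exists_root_XT (C ↘ Spec (CommRingCat.of k)) hn
    (pull (pullback.fst (C ↘ Spec (CommRingCat.of k)) (𝟙_ (Over (Spec (CommRingCat.of k)))).hom) c) (by
      exact (h3.symm.trans h2.symm).symm ▸ hc)
  exact ⟨pull (K532.UnitBase.ui (C ↘ Spec (CommRingCat.of k))) a, by rw [← map_pow, ha]; exact h1⟩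

/-- The pullback of a class along a finite flat morphism of degree `n` is an `n`-th power. -/
theorem exists_root_pull {C' C : Scheme.{u}} [C'.Over (Spec (CommRingCat.of k))] [C.Over (Spec (CommRingCat.of k))]
    (hC' : Curve.IsSmoothProperCurve k C' (C' ↘ Spec (CommRingCat.of k)))
    (hC : Curve.IsSmoothProperCurve k C (C ↘ Spec (CommRingCat.of k))) (q : C' ⟶ C)
    (hq : q ≫ (C ↘ Spec (CommRingCat.of k)) = C' ↘ Spec (CommRingCat.of k)) [IsFinite q] [Flat q] {n : ℕ}
    (hn : 0 < n) (hd : ∀ y, q.finrank y = n) (b : Pic C) : ∃ e : Pic C', e ^ n = pull q b := by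
  refine exists_root hC' hn _ ?_
  obtain ⟨hp, hs, hi, hdim⟩ := hC
  obtain ⟨hp', hs', hi', hdim'⟩ := hC'
  obtain ⟨L, hL, rfl⟩ := exists_mk b
  rw [pull_mk, K532.CurvePic.deg_mk k C' hdim', K335.FinFlatDeg.deg_pullback k hdim q hq n hd L hL]
  exact dvd_mul_right _ _

end root'

end K459.Root
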