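import Groth.Agent.Surf.K459.PureSupp
import Groth.Agent.Htor.H255.StalkBij
import Groth.Agent.CycB.ModStalk

/-!
# Stalks of length at most one and the dual module
-/

set_option autoImplicit false
universe u
open CategoryTheory CategoryTheory.Limits AlgebraicGeometry TopologicalSpace Opposite
open Groth.Agent Groth.Agent.CohqB Groth.Agent.CohqB.HomSheaf Groth.Agent.Sga2.PnHomAdj
open Groth.Agent.Dcoh.StalkMod Groth.Agent.CycB.StalkExact Groth.Agent.Divis.StalkMod
open Groth.Agent.Htor.H255.HomStalk Groth.Agent.Htor.H255.StalkBij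

namespace K459.SimpleStalk

open K459.PdAlg K459.LocFreeKer K459.ExStalk K459.Duality K459.HomLES

section Algebra

variable {R : Type*} [CommRing R]

/-- Any nonzero element generates. -/
def Simp (R A : Type*) [CommRing R] [AddCommGroup A] [Module R A] : Prop := ∀ a b : A, a ≠ 0 → ∃ r : R, b = r • a

theorem Simp.smul_eq_zero [IsLocalRing R] {A : Type*} [AddCommGroup A] [Module R A] (h : Simp R A) {p : R}
    (hp : p ∈ IsLocalRing.maximalIdeal R) (a : A) : p • a = 0 := by
  by_contra hne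
  have ha : a ≠ 0 := fun h0 => hne (by rw [h0, smul_zero])
  obtain ⟨r, hr⟩ := h (p • a) a hne
  have h1 : (1 - r * p) • a = 0 := by rw [sub_smul, one_smul, mul_smul, ← hr, sub_self]
  have hu : IsUnit (1 - r * p) := by
    have h2 : r * p ∈ IsLocalRing.maximalIdeal R := Ideal.mul_mem_left _ _ hp
    by_contra hn
    have h3 : (1 - r * p) ∈ IsLocalRing.maximalIdeal R := (IsLocalRing.mem_maximalIdeal _).2 hn
    have h4 : (1 : R) ∈ IsLocalRing.maximalIdeal R := by
      have := Ideal.add_mem _ h3 h2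
      rwa [sub_add_cancel] at this
    exact (IsLocalRing.maximalIdeal.isMaximal R).ne_top ((Ideal.eq_top_iff_one _).2 h4)
  exact ha ((hu.smul_eq_zero).1 h1)

variable {K₁ K₀ A W : Type*} [AddCommGroup K₁] [Module R K₁] [AddCommGroup K₀] [Module R K₀] [AddCommGroup A]
  [Module R A] [AddCommGroup W] [Module R W]

/-- Extension of linear forms. -/
theorem exists_extend (f : K₁ →ₗ[R] K₀) (q : K₀ →ₗ[R] A) (hf : Function.Injective f) (hex : Function.Exact f q)
    {π : R} (v : K₀) (u : K₁) (hu : f u = π • v) (hgen : ∀ a : A, ∃ r : R, a = r • q v)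
    (hann : ∀ r : R, r • q v = 0 → ∃ s, r = s * π) (φ : K₁ →ₗ[R] W) (w : W) (hw : φ u = π • w) :
    ∃ ψ : K₀ →ₗ[R] W, φ = ψ ∘ₗ f := by
  let g : (K₁ × R) →ₗ[R] K₀ := LinearMap.coprod f (LinearMap.toSpanSingleton R K₀ v)
  let Ψ : (K₁ × R) →ₗ[R] W := LinearMap.coprod φ (LinearMap.toSpanSingleton R W w)
  have hg : Function.Surjective g := by
    intro y
    obtain ⟨r, hr⟩ := hgen (q y)
    obtain ⟨k, hk⟩ := (hex (y - r • v)).1 (by rw [map_sub, map_smul, ← hr, sub_self])
    exact ⟨(k, r), by simp [g, hk]⟩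
  have hker : LinearMap.ker g ≤ LinearMap.ker Ψ := by
    rintro ⟨k, r⟩ hkr
    rw [LinearMap.mem_ker] at hkr ⊢
    have h1 : f k + r • v = 0 := by simpa [g] using hkr
    have h2 : r • q v = 0 := by
      have h3 := congrArg q h1
      rwa [map_add, hex.apply_apply_eq_zero, zero_add, map_smul, map_zero] at h3
    obtain ⟨s, rfl⟩ := hann r h2
    have h4 : f (k + s • u) = 0 := by
      rw [map_add, map_smul, hu, smul_smul]; exact h1
    have h5 : k = -(s • u) := by
      rw [eq_neg_iff_add_eq_zero]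
      exact hf (h4.trans (map_zero f).symm)
    have h6 : φ k + (s * π) • w = 0 := by
      rw [h5, map_neg, map_smul, hw, smul_smul, neg_add_cancel]
    simpa [Ψ] using h6
  refine ⟨((LinearMap.ker g).liftQ Ψ hker) ∘ₗ (g.quotKerEquivOfSurjective hg).symm.toLinearMap, ?_⟩
  ext k
  have h1 : (g.quotKerEquivOfSurjective hg).symm (f k) = (LinearMap.ker g).mkQ (k, 0) := by
    rw [LinearEquiv.symm_apply_eq]
    simp [g]
  simp only [LinearMap.comp_apply, LinearEquiv.coe_coe]
  rw [h1]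
  simp [Ψ]

/-- The dichotomy for the dual of a module of length at most one. -/
theorem dichotomy [IsLocalRing R] (f : K₁ →ₗ[R] K₀) (q : K₀ →ₗ[R] A) (hf : Function.Injective f)
    (hq : Function.Surjective q) (hex : Function.Exact f q) (hA : Simp R A)
    {π : R} (hπ : IsLocalRing.maximalIdeal R = Ideal.span {π})
    (hW : ∀ w w' : W, (∃ z, w = π • z) ∨ ∃ r : R, w' = r • w) (φ φ' : K₁ →ₗ[R] W) :
    (∃ ψ : K₀ →ₗ[R] W, φ = ψ ∘ₗ f) ∨ ∃ (r : R) (ψ : K₀ →ₗ[R] W), φ' = r • φ + ψ ∘ₗ f := by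
  by_cases h0 : ∀ a : A, a = 0
  · left
    have hsurj : Function.Surjective f := fun y => (hex y).1 (h0 _)
    let e := LinearEquiv.ofBijective f ⟨hf, hsurj⟩
    refine ⟨φ ∘ₗ e.symm.toLinearMap, ?_⟩
    ext k
    have : e.symm (f k) = k := e.symm_apply_apply k
    simp [this]
  · push Not at h0
    obtain ⟨a, ha⟩ := h0
    obtain ⟨v, rfl⟩ := hq a
    have hπm : π ∈ IsLocalRing.maximalIdeal R := by rw [hπ]; exact Ideal.mem_span_singleton_self π
    have h1 : q (π • v) = 0 := by rw [map_smul]; exact hA.smul_eq_zero hπm _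
    obtain ⟨u, hu⟩ := (hex _).1 h1
    have hgen : ∀ a : A, ∃ r : R, a = r • q v := fun a => hA _ a ha
    have hann : ∀ r : R, r • q v = 0 → ∃ s, r = s * π := by
      intro r hr
      have h2 : r ∈ IsLocalRing.maximalIdeal R := by
        rw [IsLocalRing.mem_maximalIdeal, mem_nonunits_iff]
        intro hu
        exact ha ((hu.smul_eq_zero).1 hr)
      rw [hπ] at h2
      obtain ⟨s, hs⟩ := Ideal.mem_span_singleton'.1 h2
      exact ⟨s, hs.symm⟩
    rcases hW (φ u) (φ' u) with ⟨w, hw⟩ | ⟨r, hr⟩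
    · exact Or.inl (exists_extend f q hf hex v u hu hgen hann φ w hw)
    · right
      have h3 : (φ' - r • φ) u = π • (0 : W) := by
        rw [LinearMap.sub_apply, LinearMap.smul_apply, hr, sub_self, smul_zero]
      obtain ⟨ψ, hψ⟩ := exists_extend f q hf hex v u hu hgen hann (φ' - r • φ) 0 h3
      exact ⟨r, ψ, by rw [← hψ]; abel⟩

end Algebra

variable {X : Scheme.{u}}

/-- The stalk is zero or simple. -/
def SimpAt (F : X.Modules) (x : X) : Prop := Simp (X.presheaf.stalk x) (F.presheaf.stalk x)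

theorem SimpAt.of_mono {F G : X.Modules} (f : F ⟶ G) [Mono f] {x : X} (h : SimpAt G x) : SimpAt F x := by
  intro a b ha
  have hinj := stalkLin_injective f x
  have h1 : stalkLin f x a ≠ 0 := fun h0 => ha (hinj (h0.trans (map_zero _).symm))
  obtain ⟨r, hr⟩ := h _ (stalkLin f x b) h1
  exact ⟨r, hinj (by rw [hr, map_smul])⟩

theorem SimpAt.surjective {F G : X.Modules} (f : F ⟶ G) [Mono f] {x : X} (h : SimpAt G x)
    (hF : ¬ Subsingleton (F.presheaf.stalk x)) : Function.Surjective (stalkLin f x) := by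
  rw [not_subsingleton_iff_nontrivial] at hF
  obtain ⟨a, ha⟩ := exists_ne (0 : F.presheaf.stalk x)
  intro b
  have h1 : stalkLin f x a ≠ 0 := fun h0 => ha (stalkLin_injective f x (h0.trans (map_zero _).symm))
  obtain ⟨r, hr⟩ := h _ b h1
  exact ⟨r • a, by rw [map_smul, hr]⟩

theorem homStalk_homMapLeft {M M' : X.Modules} (f : M' ⟶ M) (N : X.Modules) (x : X)
    (t : (homSheaf M N).presheaf.stalk x) :
    homStalk M' N x (stalkLin (homMapLeft f N) x t) = (homStalk M N x t) ∘ₗ stalkLin f x := by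
  obtain ⟨U, hx, s, rfl⟩ := (homSheaf M N).presheaf.exists_germ_eq t
  ext m
  obtain ⟨V, hV, m, rfl⟩ := M'.presheaf.exists_germ_eq m
  have e : M'.presheaf.germ V x hV m = M'.presheaf.germ (V ⊓ U) x (Opens.mem_inf.2 ⟨hV, hx⟩)
    (M'.presheaf.map (homOfLE inf_le_left).op m) :=
    (germ_map M' inf_le_left x (Opens.mem_inf.2 ⟨hV, hx⟩) m).symm
  rw [e, stalkLin_germ, LinearMap.comp_apply, stalkLin_germ, homStalk_germ_germ x hx _ _ _ inf_le_right,
    homStalk_germ_germ x hx _ _ _ inf_le_right, comp_homMapLeft]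

/-- The condition on the target of the linear forms holds for the stalks of invertible modules. -/
theorem target_dichotomy {ω : X.Modules} (hω : PicF.IsInvertible ω) (x : X) {π : X.presheaf.stalk x}
    (hπ : IsLocalRing.maximalIdeal (X.presheaf.stalk x) = Ideal.span {π}) (w w' : ω.presheaf.stalk x) :
    (∃ z, w = π • z) ∨ ∃ r : X.presheaf.stalk x, w' = r • w := by
  obtain ⟨t, ht⟩ := CycB.ModStalk.exists_isGen hω x
  have hspan := ht.span_eq_top
  obtain ⟨a, rfl⟩ := Submodule.mem_span_singleton.1 (hspan ▸ Submodule.mem_top : w ∈ Submodule.span _ {t})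
  obtain ⟨b, rfl⟩ := Submodule.mem_span_singleton.1 (hspan ▸ Submodule.mem_top : w' ∈ Submodule.span _ {t})
  by_cases ha : IsUnit a
  · right
    obtain ⟨u, rfl⟩ := ha
    exact ⟨b * ↑u⁻¹, by rw [smul_smul, mul_assoc, Units.inv_mul, mul_one]⟩
  · left
    have h1 : a ∈ IsLocalRing.maximalIdeal (X.presheaf.stalk x) := (IsLocalRing.mem_maximalIdeal _).2 ha
    rw [hπ] at h1
    obtain ⟨s, rfl⟩ := Ideal.mem_span_singleton'.1 h1
    exact ⟨s • t, by rw [smul_smul, mul_comm]⟩

/-- The dual of a module with stalk of length at most one has stalk of length at most one. -/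
theorem SimpAt.ex [IsIntegral X] [IsLocallyNoetherian X] [HasInjectiveResolutions X.Modules] {F₁ F₀ F : X.Modules}
    {f : F₁ ⟶ F₀} {g : F₀ ⟶ F} {w : f ≫ g = 0}
    (hS : (ShortComplex.mk f g w).ShortExact) (h₁ : FlatMod.IsFinLocFree F₁) (h₀ : FlatMod.IsFinLocFree F₀)
    {ω : X.Modules} (hω : PicF.IsInvertible ω) (hF : Coh.IsCoh F) (ht : Tors F) {x : X} (h : SimpAt F x)
    {π : X.presheaf.stalk x} (hπ : IsLocalRing.maximalIdeal (X.presheaf.stalk x) = Ideal.span {π}) :
    SimpAt (Ex 1 F ω) x := by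
  have hωf : FlatMod.IsFinLocFree ω :=
    Ega2.QCohLocal.isFinLocFree_of_rank (Ega2.QCohLocal.isFinLocFreeOfRank_one_iff.2 hω)
  have hT := shortExact_dual hS h₁ h₀ hωf hF ht
  have hepi := hT.epi_g
  have hmono := hS.mono_f
  have hepi' := hS.epi_g
  have hc1 := PerfA.CohSerre.isCoh_of_isFinLocFree h₁
  have hc0 := PerfA.CohSerre.isCoh_of_isFinLocFree h₀
  obtain ⟨U, hU, hx⟩ := exists_affine x
  have := finite_sections hc1 hU
  have := finite_sections hc0 hU
  have hnoeth : IsNoetherianRing Γ(X, U) := IsLocallyNoetherian.component_noetherian ⟨U, hU⟩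
  have hfp0 : Module.FinitePresentation Γ(X, U) Γ(F₀, U) := Module.finitePresentation_of_finite _ _
  intro t t' ht0
  obtain ⟨s, rfl⟩ := stalkLin_surjective (aug hS h₁ h₀ ω) x t
  obtain ⟨s', rfl⟩ := stalkLin_surjective (aug hS h₁ h₀ ω) x t'
  have hzero : ∀ z, stalkLin (aug hS h₁ h₀ ω) x (stalkLin (homMapLeft f ω) x z) = 0 := fun z =>
    (stalkLin_exact _ hT.exact x).apply_apply_eq_zero z
  rcases dichotomy (stalkLin f x) (stalkLin g x) (stalkLin_injective f x) (stalkLin_surjective g x)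
    (stalkLin_exact _ hS.exact x) h hπ (target_dichotomy hω x hπ) (homStalk F₁ ω x s) (homStalk F₁ ω x s') with
    ⟨ψ, hψ⟩ | ⟨r, ψ, hψ⟩
  · exfalso
    obtain ⟨z, rfl⟩ := (surjective_homStalk hc0.1 hU x hx) ψ
    rw [← homStalk_homMapLeft] at hψ
    have h5 := injective_homStalk hc1.1 hU x hx hψ
    exact ht0 (by rw [h5]; exact hzero z)
  · obtain ⟨z, rfl⟩ := (surjective_homStalk hc0.1 hU x hx) ψ
    rw [← homStalk_homMapLeft, ← map_smul, ← map_add] at hψ
    have h5 := injective_homStalk hc1.1 hU x hx hψ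
    exact ⟨r, by rw [h5, map_add, map_smul, hzero, add_zero]⟩

end K459.SimpleStalk
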